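import Groth.Agent.BigCellLib.Isogeny

/-!
# The prelude phrasing of the conditions on a homomorphism of rank-one systems
-/

set_option autoImplicit false
universe u

open CategoryTheory CategoryTheory.Limits MonoidalCategory CartesianMonoidalCategory AlgebraicGeometry
open Groth.Agent.GaPts
open Groth.Agent.RankOne (eq_ptOf eq_ptOfUnit comp_ptOf)
open scoped MonObj

noncomputable section

namespace Groth.Agent.BigCell

variable {S : Scheme.{u}} {G G' T T' : Over S} [GrpObj G] [GrpObj G'] [GrpObj T] [GrpObj T'] {i : T ⟶ G}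
    {α : T ⟶ Red.Gm S} {pp pm : Red.Ga S ⟶ G} {av : Red.Gm S ⟶ T} {i' : T' ⟶ G'} {α' : T' ⟶ Red.Gm S}
    {pp' pm' : Red.Ga S ⟶ G'} {av₁ : Red.Gm S ⟶ T'}

theorem posRoot_iff {p : Red.Ga S ⟶ G} {p' : Red.Ga S ⟶ G'} (f : G ⟶ G') (c : 𝟙_ (Over S) ⟶ Red.Gm S) (q : ℕ) :
    (∀ (X : Over S) (x y : X ⟶ Red.Ga S), Red.gaFn y = Red.gmFn (toUnit X ≫ c) * Red.gaFn x ^ q →
      (x ≫ p) ≫ f = y ≫ p') ↔ p ≫ f = pw c q ≫ p' := by
  refine ⟨fun h => ?_, fun h X x y e => ?_⟩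
  · have := h (Red.Ga S) (𝟙 _) (pw c q) (by rw [pw, gaFn_ptOf]; rfl)
    rwa [Category.id_comp] at this
  · rw [Category.assoc, h, ← Category.assoc, comp_pw]
    congr 1
    exact (eq_ptOf y e).symm

theorem negRoot_iff {p : Red.Ga S ⟶ G} {p' : Red.Ga S ⟶ G'} (f : G ⟶ G') (c : 𝟙_ (Over S) ⟶ Red.Gm S) (q : ℕ) :
    (∀ (X : Over S) (x y : X ⟶ Red.Ga S), Red.gaFn y * Red.gmFn (toUnit X ≫ c) = Red.gaFn x ^ q →
      (x ≫ p) ≫ f = y ≫ p') ↔ p ≫ f = pw c⁻¹ q ≫ p' := by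
  rw [← posRoot_iff]
  refine forall_congr' fun X => forall_congr' fun x => forall_congr' fun y => ?_
  rw [← GmPts.val_unitOfPt, ← GmPts.val_unitOfPt, show GmPts.unitOfPt (toUnit X ≫ c⁻¹) = (cU c X)⁻¹ from cU_inv c X,
    ← Units.eq_mul_inv_iff_mul_eq, mul_comm (Red.gaFn x ^ q)]

theorem Sys1.coroot_iff (st : Sys1 i α pp pm av) (st' : Sys1 i' α' pp' pm' av₁) (f : G ⟶ G') (q : ℕ) :
    (∀ (X : Over S) (z : X ⟶ Red.Gm S), (z ≫ av ≫ i) ≫ f = ((z ≫ av₁) ^ q) ≫ i') ↔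
      ∀ (X : Over S) (z : (Γ(X.left, ⊤))ˣ), (st.D X).h z ≫ f = (st'.D X).h (z ^ q) := by
  have e : ∀ {X : Over S} (z : X ⟶ Red.Gm S),
      ((z ≫ av₁) ^ q) ≫ i' = (st'.D X).h (GmPts.unitOfPt z ^ q) := fun z => by
    rw [← zpow_natCast, ← zpow_natCast, st'.h_zpow]
  refine ⟨fun h X z => ?_, fun h X z => ?_⟩
  · have := h X (GmPts.ptOfUnit z)
    rw [e, GmPts.unitOfPt_ptOfUnit, st.setup.gm_eq, GmPts.unitOfPt_ptOfUnit] at this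
    exact this
  · rw [e, st.setup.gm_eq]
    exact h X _

theorem Sys1.weyl_iff (st : Sys1 i α pp pm av) (st' : Sys1 i' α' pp' pm' av₁) (f : G ⟶ G')
    (c : 𝟙_ (Over S) ⟶ Red.Gm S) (q : ℕ) :
    (∀ (X : Over S) (x x' y y' : X ⟶ Red.Ga S), Red.gaFn x' * Red.gaFn x = -1 →
        Red.gaFn y = Red.gmFn (toUnit X ≫ c) * Red.gaFn x ^ q → Red.gaFn y' * Red.gaFn y = -1 →
        ((x ≫ pp) * (x' ≫ pm) * (x ≫ pp)) ≫ f = (y ≫ pp') * (y' ≫ pm') * (y ≫ pp')) ↔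
      ∀ (X : Over S) (x : (Γ(X.left, ⊤))ˣ), (st.D X).w x ≫ f = (st'.D X).w (cU c X * x ^ q) := by
  refine ⟨fun h X u => ?_, fun h X x x' y y' hx hy hy' => ?_⟩
  · let v := cU c X * u ^ q
    have e := h X (ptOf (u : Γ(X.left, ⊤))) (ptOf (-((u⁻¹ : (Γ(X.left, ⊤))ˣ) : Γ(X.left, ⊤))))
      (ptOf (v : Γ(X.left, ⊤))) (ptOf (-((v⁻¹ : (Γ(X.left, ⊤))ˣ) : Γ(X.left, ⊤))))
      (by rw [gaFn_ptOf, gaFn_ptOf, neg_mul, Units.inv_mul])
      (by rw [gaFn_ptOf, gaFn_ptOf, Units.val_mul, Units.val_pow_eq_pow_val]; rfl)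
      (by rw [gaFn_ptOf, gaFn_ptOf, neg_mul, Units.inv_mul])
    exact e
  · obtain ⟨u, hu, -, e, -, -⟩ := st.setup.weyl_eq x x' hx
    obtain ⟨v, hv, -, e', -, -⟩ := st'.setup.weyl_eq y y' hy'
    rw [e, e', h X u]
    congr 1
    refine Units.ext ?_
    rw [hv, hy, ← hu, Units.val_mul, Units.val_pow_eq_pow_val, GmPts.val_unitOfPt]

end Groth.Agent.BigCell
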