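import Groth.Agent.BigCellLib.Torus
import Groth.Agent.HomogSepLib.Main
import Groth.Agent.HomogSepLib.Irr

/-!
# The big cell: points, translation and generation

A `Sys` is a quadruple `(i, α, p₊, p₋)` whose cell map is an open immersion.  When the group is smooth with connected
geometric fibres, finitely many points can be translated into the cell after a flat surjection.
-/

set_option autoImplicit false
set_option maxHeartbeats 1000000
universe u

open CategoryTheory CategoryTheory.Limits MonoidalCategory CartesianMonoidalCategory AlgebraicGeometry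
open Groth.Agent.GaPts
open Groth.Agent.RankOne (eq_ptOf ptOf_add comp_ptOf)
open scoped MonObj

noncomputable section

namespace Groth.Agent.BigCell

variable {S : Scheme.{u}}

/-- A group with an open cell. -/
structure Sys {G T : Over S} [GrpObj G] [GrpObj T] (i : T ⟶ G) (α : T ⟶ Red.Gm S) (pp pm : Red.Ga S ⟶ G) : Prop where
  mon_i : IsMonHom i
  mon_α : IsMonHom α
  mon_pp : IsMonHom pp
  mon_pm : IsMonHom pm
  hpp : ∀ (X : Over S) (t : X ⟶ T) (x : X ⟶ Red.Ga S), ∃ x' : X ⟶ Red.Ga S,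
      x' ≫ pp = (t ≫ i) * (x ≫ pp) * (t ≫ i)⁻¹ ∧ Red.gaFn x' = Red.gmFn (t ≫ α) * Red.gaFn x
  hpm : ∀ (X : Over S) (t : X ⟶ T) (y : X ⟶ Red.Ga S), ∃ y' : X ⟶ Red.Ga S,
      y' ≫ pm = (t ≫ i) * (y ≫ pm) * (t ≫ i)⁻¹ ∧ Red.gaFn y' * Red.gmFn (t ≫ α) = Red.gaFn y
  hΩ : IsOpenImmersion (((pm ⊗ₘ i) ⊗ₘ pp) ≫ (μ[G] ▷ G) ≫ μ[G]).left

/-- Smooth, with connected geometric fibres. -/
structure Conn (G : Over S) : Prop where
  smooth : Smooth G.hom
  conn : ∀ s : S, ConnectedSpace (Red.geomFibre s G).left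

theorem conn_of_isReductive {G : Over S} [GrpObj G] (hG : Red.IsReductive G) : Conn G :=
  ⟨hG.2.1, fun s => (hG.2.2 s).2.2.1⟩

variable {G T : Over S} [GrpObj G] [GrpObj T] {i : T ⟶ G} {α : T ⟶ Red.Gm S} {pp pm : Red.Ga S ⟶ G}

/-- `x ↦ p(x)` on functions. -/
abbrev rt (p : Red.Ga S ⟶ G) {X : Over S} (c : Γ(X.left, ⊤)) : X ⟶ G := (ptOf c : X ⟶ Red.Ga S) ≫ p

theorem comp_rt (p : Red.Ga S ⟶ G) {X X' : Over S} (g : X' ⟶ X) (c : Γ(X.left, ⊤)) :
    g ≫ rt p c = rt p (g.left.appTop c) := by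
  rw [rt, ← Category.assoc, comp_ptOf]

theorem rt_add (p : Red.Ga S ⟶ G) [IsMonHom p] {X : Over S} (c d : Γ(X.left, ⊤)) :
    rt p (c + d) = rt p c * rt p d := by
  rw [rt, ptOf_add, MonObj.mul_comp]

theorem rt_zero (p : Red.Ga S ⟶ G) [IsMonHom p] {X : Over S} : rt p (0 : Γ(X.left, ⊤)) = 1 := by
  have h := rt_add p (0 : Γ(X.left, ⊤)) 0
  rw [add_zero] at h
  exact left_eq_mul.1 h

theorem rt_neg (p : Red.Ga S ⟶ G) [IsMonHom p] {X : Over S} (c : Γ(X.left, ⊤)) : rt p (-c) = (rt p c)⁻¹ :=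
  eq_inv_of_mul_eq_one_left (by rw [← rt_add, neg_add_cancel, rt_zero])

theorem rt_eq (p : Red.Ga S ⟶ G) {X : Over S} (x : X ⟶ Red.Ga S) {c : Γ(X.left, ⊤)} (h : Red.gaFn x = c) :
    x ≫ p = rt p c := by
  rw [eq_ptOf x h]

/-- The value of a character on a point. -/
abbrev av' (α : T ⟶ Red.Gm S) {X : Over S} (t : X ⟶ T) : (Γ(X.left, ⊤))ˣ := GmPts.unitOfPt (t ≫ α)

theorem Sys.conjP (st : Sys i α pp pm) {X : Over S} (t : X ⟶ T) (c : Γ(X.left, ⊤)) :
    (t ≫ i) * rt pp c * (t ≫ i)⁻¹ = rt pp ((av' α t : Γ(X.left, ⊤)) * c) := by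
  obtain ⟨x', h1, h2⟩ := st.hpp X t (ptOf c)
  refine h1.symm.trans (rt_eq pp x' (h2.trans ?_))
  rw [gaFn_ptOf]
  rfl

theorem Sys.conjM (st : Sys i α pp pm) {X : Over S} (t : X ⟶ T) (c : Γ(X.left, ⊤)) :
    (t ≫ i) * rt pm c * (t ≫ i)⁻¹ = rt pm ((((av' α t)⁻¹ : (Γ(X.left, ⊤))ˣ) : Γ(X.left, ⊤)) * c) := by
  obtain ⟨y', h1, h2⟩ := st.hpm X t (ptOf c)
  refine h1.symm.trans (rt_eq pm y' ?_)
  rw [gaFn_ptOf, ← GmPts.val_unitOfPt, ← Units.eq_mul_inv_iff_mul_eq, mul_comm] at h2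
  exact h2

/-- The cell map. -/
abbrev cellHom (i : T ⟶ G) (pp pm : Red.Ga S ⟶ G) : (Red.Ga S ⊗ T) ⊗ Red.Ga S ⟶ G :=
  ((pm ⊗ₘ i) ⊗ₘ pp) ≫ (μ[G] ▷ G) ≫ μ[G]

/-- A point of the cell. -/
abbrev cell (i : T ⟶ G) (pp pm : Red.Ga S ⟶ G) {X : Over S} (y : Γ(X.left, ⊤)) (t : X ⟶ T)
    (x : Γ(X.left, ⊤)) : X ⟶ G :=
  rt pm y * (t ≫ i) * rt pp x

theorem lift_cellHom (i : T ⟶ G) (pp pm : Red.Ga S ⟶ G) {X : Over S} (y : X ⟶ Red.Ga S) (t : X ⟶ T)
    (x : X ⟶ Red.Ga S) : lift (lift y t) x ≫ cellHom i pp pm = (y ≫ pm) * (t ≫ i) * (x ≫ pp) := by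
  simp only [cellHom, lift_map_assoc, lift_whiskerRight_assoc, Hom.mul_def, lift_map, Category.assoc]

theorem comp_cell (i : T ⟶ G) (pp pm : Red.Ga S ⟶ G) {X X' : Over S} (g : X' ⟶ X) (y : Γ(X.left, ⊤)) (t : X ⟶ T)
    (x : Γ(X.left, ⊤)) :
    g ≫ cell i pp pm y t x = cell i pp pm (g.left.appTop y) (g ≫ t) (g.left.appTop x) := by
  simp only [cell, MonObj.comp_mul, comp_rt, Category.assoc]

theorem Sys.mono_cellHom (st : Sys i α pp pm) : Mono (cellHom i pp pm) := by
  haveI := st.hΩ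
  exact (Over.forget S).mono_of_mono_map (show Mono (cellHom i pp pm).left from inferInstance)

theorem Sys.cell_inj (st : Sys i α pp pm) {X : Over S} {y x y' x' : Γ(X.left, ⊤)} {t t' : X ⟶ T}
    (h : cell i pp pm y t x = cell i pp pm y' t' x') : y = y' ∧ t = t' ∧ x = x' := by
  haveI := st.mono_cellHom
  have h1 : lift (lift (ptOf y : X ⟶ Red.Ga S) t) (ptOf x) = lift (lift (ptOf y') t') (ptOf x') := by
    rw [← cancel_mono (cellHom i pp pm), lift_cellHom, lift_cellHom]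
    exact h
  have hx := congrArg (fun f => f ≫ snd _ _) h1
  have hyt := congrArg (fun f => f ≫ fst _ _) h1
  simp only [lift_snd, lift_fst] at hx hyt
  have hy := congrArg (fun f => f ≫ fst _ _) hyt
  have ht := congrArg (fun f => f ≫ snd _ _) hyt
  simp only [lift_snd, lift_fst] at hy ht
  exact ⟨by simpa only [gaFn_ptOf] using congrArg Red.gaFn hy, ht,
    by simpa only [gaFn_ptOf] using congrArg Red.gaFn hx⟩

theorem cell_one (i : T ⟶ G) (pp pm : Red.Ga S ⟶ G) [IsMonHom i] [IsMonHom pp] [IsMonHom pm] {X : Over S} :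
    cell i pp pm (0 : Γ(X.left, ⊤)) 1 0 = 1 := by
  simp only [cell, rt_zero, MonObj.one_comp, _root_.mul_one]

theorem Sys.rt_pp_inj (st : Sys i α pp pm) {X : Over S} {c d : Γ(X.left, ⊤)} (h : rt pp c = rt pp d) : c = d := by
  haveI := st.mon_i
  haveI := st.mon_pm
  refine (st.cell_inj (y := 0) (y' := 0) (t := 1) (t' := 1) ?_).2.2
  simp only [cell, rt_zero, MonObj.one_comp, _root_.one_mul, h]

theorem Sys.rt_pm_inj (st : Sys i α pp pm) {X : Over S} {c d : Γ(X.left, ⊤)} (h : rt pm c = rt pm d) : c = d := by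
  haveI := st.mon_i
  haveI := st.mon_pp
  refine (st.cell_inj (x := 0) (x' := 0) (t := 1) (t' := 1) ?_).1
  simp only [cell, rt_zero, MonObj.one_comp, _root_.mul_one, h]

theorem Sys.tor_inj (st : Sys i α pp pm) {X : Over S} {t t' : X ⟶ T} (h : t ≫ i = t' ≫ i) : t = t' := by
  haveI := st.mon_pp
  haveI := st.mon_pm
  refine (st.cell_inj (x := 0) (x' := 0) (y := 0) (y' := 0) ?_).2.1
  simp only [cell, rt_zero, _root_.mul_one, _root_.one_mul, h]

/-! ## Membership in the cell -/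

/-- The point lies in the cell. -/
def InCell (i : T ⟶ G) (pp pm : Red.Ga S ⟶ G) {X : Over S} (g : X ⟶ G) : Prop :=
  ∃ (y : Γ(X.left, ⊤)) (t : X ⟶ T) (x : Γ(X.left, ⊤)), g = cell i pp pm y t x

theorem InCell.comp {X X' : Over S} {g : X ⟶ G} (h : InCell i pp pm g) (f : X' ⟶ X) : InCell i pp pm (f ≫ g) := by
  obtain ⟨y, t, x, rfl⟩ := h
  exact ⟨_, _, _, comp_cell i pp pm f y t x⟩

theorem inCell_iff_range (hΩ : IsOpenImmersion (cellHom i pp pm).left) {X : Over S} (g : X ⟶ G) :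
    InCell i pp pm g ↔ Set.range g.left ⊆ Set.range (cellHom i pp pm).left := by
  constructor
  · rintro ⟨y, t, x, rfl⟩
    have h : cell i pp pm y t x = lift (lift (ptOf y) t) (ptOf x) ≫ cellHom i pp pm := (lift_cellHom ..).symm
    rw [h, Over.comp_left]
    rintro _ ⟨z, rfl⟩
    exact ⟨_, (Scheme.Hom.comp_apply _ _ _).symm⟩
  · intro h
    haveI := hΩ
    let l : X ⟶ (Red.Ga S ⊗ T) ⊗ Red.Ga S := Over.homMk (IsOpenImmersion.lift (cellHom i pp pm).left g.left h) (by
      rw [← Over.w (cellHom i pp pm), ← Category.assoc, IsOpenImmersion.lift_fac, Over.w])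
    have hl : l ≫ cellHom i pp pm = g := Over.OverMorphism.ext (IsOpenImmersion.lift_fac _ _ _)
    let y := l ≫ fst _ _ ≫ fst _ _
    let t := l ≫ fst _ _ ≫ snd _ _
    let x := l ≫ snd _ _
    refine ⟨Red.gaFn y, t, Red.gaFn x, ?_⟩
    have he : l = lift (lift y t) x := by
      refine CartesianMonoidalCategory.hom_ext _ _ ?_ (lift_snd _ _).symm
      refine CartesianMonoidalCategory.hom_ext _ _ ?_ ?_
      · rw [lift_fst, lift_fst, Category.assoc]
      · rw [lift_fst, lift_snd, Category.assoc]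
    rw [← hl, he, lift_cellHom, rt_eq pm y rfl, rt_eq pp x rfl]

/-- Membership is tested on field points. -/
theorem Sys.inCell_of_field (st : Sys i α pp pm) {X : Over S} {g : X ⟶ G}
    (h : ∀ (K : Type u) [Field K] [IsAlgClosed K] (a : Spec (CommRingCat.of K) ⟶ S) (p : fieldPt K a ⟶ X),
      InCell i pp pm (p ≫ g)) : InCell i pp pm g := by
  refine (inCell_iff_range st.hΩ g).2 ?_
  rintro _ ⟨x, rfl⟩
  obtain ⟨K, _, _, a, p, hp⟩ := exists_geomPt X x
  let z : (fieldPt K a).left := (IsLocalRing.closedPoint K : PrimeSpectrum K)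
  have h1 := (inCell_iff_range st.hΩ (p ≫ g)).1 (h K a p) ⟨z, rfl⟩
  have h2 : (p ≫ g).left z = g.left x := (Scheme.Hom.comp_apply p.left g.left z).trans (congrArg _ (hp z))
  exact h2 ▸ h1

/-- Membership descends along surjections. -/
theorem Sys.inCell_of_surjective (st : Sys i α pp pm) {X X' : Over S} (π : X' ⟶ X) [Surjective π.left] {g : X ⟶ G}
    (h : InCell i pp pm (π ≫ g)) : InCell i pp pm g := by
  refine (inCell_iff_range st.hΩ g).2 ?_
  rintro _ ⟨x, rfl⟩
  obtain ⟨x', rfl⟩ := π.left.surjective x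
  have h1 := (inCell_iff_range st.hΩ (π ≫ g)).1 h ⟨x', rfl⟩
  exact (Scheme.Hom.comp_apply π.left g.left x') ▸ h1

theorem Sys.cell_conj (st : Sys i α pp pm) (hc : ∀ (X : Over S) (a b : X ⟶ T), a * b = b * a) {X : Over S}
    (s : X ⟶ T) (y : Γ(X.left, ⊤)) (t : X ⟶ T) (x : Γ(X.left, ⊤)) :
    (s ≫ i) * cell i pp pm y t x * (s ≫ i)⁻¹ =
      cell i pp pm ((((av' α s)⁻¹ : (Γ(X.left, ⊤))ˣ) : Γ(X.left, ⊤)) * y) t ((av' α s : Γ(X.left, ⊤)) * x) := by
  haveI := st.mon_i
  have h : (s ≫ i) * (t ≫ i) * (s ≫ i)⁻¹ = t ≫ i := by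
    rw [← MonObj.mul_comp, hc X s t, MonObj.mul_comp, mul_inv_cancel_right]
  simp only [cell]
  rw [← st.conjP, ← st.conjM]
  conv_rhs => rw [← h]
  group

/-! ## Translation -/

theorem Conn.irreducible (hG : Conn G) {K : Type u} [Field K] [IsAlgClosed K] (a : Spec (CommRingCat.of K) ⟶ S) :
    IrreducibleSpace (Red.bc a G).left := by
  haveI := hG.smooth
  haveI : LocallyOfFiniteType (Red.bc a G).hom := inferInstanceAs (LocallyOfFiniteType (pullback.snd G.hom a))
  haveI : ConnectedSpace (Red.bc a G).left := by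
    obtain ⟨s, φ, rfl⟩ : ∃ (s : S) (φ : S.residueField s ⟶ CommRingCat.of K),
        Spec.map φ ≫ S.fromSpecResidueField s = a :=
      ⟨_, _, Scheme.descResidueField_stalkClosedPointTo_fromSpecResidueField K S a⟩
    letI : Algebra (S.residueField s) K := φ.hom.toAlgebra
    let ψ : AlgebraicClosure (S.residueField s) →ₐ[S.residueField s] K := IsAlgClosed.lift
    let c := Spec.map (CommRingCat.ofHom ψ.toRingHom)
    have hc : c ≫ Red.geomPt s = Spec.map φ ≫ S.fromSpecResidueField s := by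
      rw [Red.geomPt, ← Category.assoc, ← Spec.map_comp]
      congr 2
      ext b
      exact ψ.commutes b
    haveI := hG.conn s
    haveI : GeometricallyConnected (Red.geomFibre s G).hom := HomogSep.gc_of_unit _
    haveI : ConnectedSpace ↥(pullback (Red.geomFibre s G).hom c) :=
      GeometricallyConnected.connectedSpace_of_subsingleton (pullback.snd (Red.geomFibre s G).hom c)
    let e : pullback (Red.geomFibre s G).hom c ≅ pullback G.hom (Spec.map φ ≫ S.fromSpecResidueField s) :=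
      pullbackLeftPullbackSndIso G.hom (Red.geomPt s) c ≪≫ pullback.congrHom rfl hc
    exact (Scheme.homeoOfIso e).surjective.connectedSpace (Scheme.homeoOfIso e).continuous
  exact HomogSep.irreducibleSpace_grp

theorem Sys.exists_translate (st : Sys i α pp pm) (hG : Conn G) {X : Over S} {J : Type} [Fintype J]
    (g : J → (X ⟶ G)) :
    ∃ (X' : Over S) (π : X' ⟶ X) (_ : Flat π.left) (_ : LocallyOfFinitePresentation π.left) (_ : Surjective π.left)
      (e : X' ⟶ G), InCell i pp pm e ∧ ∀ j, InCell i pp pm ((π ≫ g j) * e) := by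
  classical
  haveI := hG.smooth
  haveI := st.hΩ
  haveI := st.mon_i
  haveI := st.mon_pp
  haveI := st.mon_pm
  let P : Over S := X ⊗ G
  let m : Option J → (P ⟶ G) := fun o => o.elim (snd X G) fun j => (fst X G ≫ g j) * snd X G
  let Ω : G.left.Opens := (cellHom i pp pm).left.opensRange
  let U : P.left.Opens := Finset.univ.inf fun o => (m o).left ⁻¹ᵁ Ω
  let X' : Over S := Over.mk (U.ι ≫ P.hom)
  let jU : X' ⟶ P := Over.homMk U.ι rfl
  have hmem : ∀ o, InCell i pp pm (jU ≫ m o) := fun o => by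
    refine (inCell_iff_range st.hΩ _).2 ?_
    rintro _ ⟨z, rfl⟩
    have hle : U ≤ (m o).left ⁻¹ᵁ Ω := Finset.inf_le (Finset.mem_univ o)
    have : (m o).left (jU.left z) ∈ Ω := hle z.2
    exact (Scheme.Hom.comp_apply jU.left (m o).left z).symm ▸ this
  refine ⟨X', jU ≫ fst _ _, ?_, ?_, ⟨fun x => ?_⟩, jU ≫ snd _ _, hmem none, fun j => ?_⟩
  · show Flat (U.ι ≫ pullback.fst X.hom G.hom)
    infer_instance
  · show LocallyOfFinitePresentation (U.ι ≫ pullback.fst X.hom G.hom)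
    infer_instance
  · obtain ⟨K, _, _, a, p, hp⟩ := exists_geomPt X x
    haveI := hG.irreducible a
    let Q : Over S := Over.mk ((Red.bc a G).hom ≫ a)
    let pr : Q ⟶ fieldPt K a := Over.homMk (Red.bc a G).hom rfl
    let w : Q ⟶ G := Over.homMk (pullback.fst G.hom a) pullback.condition
    let κ : Q ⟶ P := lift (pr ≫ p) w
    have hne : ∀ o, ((κ ≫ m o).left ⁻¹ᵁ Ω : Set Q.left).Nonempty := by
      intro o
      let c : fieldPt K a ⟶ G := o.elim 1 fun j => (p ≫ g j)⁻¹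
      let σ : fieldPt K a ⟶ Q := Over.homMk (pullback.lift c.left (𝟙 _) ((Over.w c).trans (Category.id_comp _).symm))
        (by
          show _ ≫ pullback.snd G.hom a ≫ a = a
          rw [← Category.assoc, pullback.lift_snd]
          exact Category.id_comp a)
      have h1 : σ ≫ pr = 𝟙 _ := Over.OverMorphism.ext (pullback.lift_snd _ _ _)
      have h2 : σ ≫ w = c := Over.OverMorphism.ext (pullback.lift_fst _ _ _)
      have h3 : σ ≫ κ ≫ m o = 1 := by
        have hk : σ ≫ κ = lift p c := by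
          rw [comp_lift, ← Category.assoc, h1, Category.id_comp, h2]
        rw [← Category.assoc, hk]
        cases o with
        | none => exact (lift_snd _ _)
        | some j =>
          show lift p c ≫ ((fst X G ≫ g j) * snd X G) = 1
          rw [MonObj.comp_mul, ← Category.assoc, lift_fst, lift_snd]
          exact mul_inv_cancel _
      let z₀ : (fieldPt K a).left := (IsLocalRing.closedPoint K : PrimeSpectrum K)
      refine ⟨σ.left z₀, ?_⟩
      have h4 : (σ ≫ κ ≫ m o).left z₀ ∈ Ω := by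
        rw [h3]
        exact (inCell_iff_range st.hΩ _).1 ⟨0, 1, 0, (cell_one i pp pm).symm⟩ ⟨z₀, rfl⟩
      change (κ ≫ m o).left (σ.left z₀) ∈ Ω
      exact (Scheme.Hom.comp_apply σ.left (κ ≫ m o).left z₀) ▸ h4
    have key : ∀ s : Finset (Option J),
        ((κ.left ⁻¹ᵁ s.inf fun o => (m o).left ⁻¹ᵁ Ω : Q.left.Opens) : Set Q.left).Nonempty := by
      intro s
      haveI : IrreducibleSpace Q.left := hG.irreducible a
      induction s using Finset.induction with
      | empty => exact ⟨(hne none).choose, trivial⟩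
      | insert o s _ ih =>
        rw [Finset.inf_insert]
        refine nonempty_preirreducible_inter (s := ((κ.left ⁻¹ᵁ ((m o).left ⁻¹ᵁ Ω) : Q.left.Opens) : Set Q.left))
          (t := ((κ.left ⁻¹ᵁ (s.inf fun o => (m o).left ⁻¹ᵁ Ω) : Q.left.Opens) : Set Q.left))
          (TopologicalSpace.Opens.isOpen _) (TopologicalSpace.Opens.isOpen _) ?_ ih
        obtain ⟨z, hz⟩ := hne o
        exact ⟨z, hz⟩
    obtain ⟨q, hqU⟩ := key Finset.univ
    refine ⟨⟨κ.left q, hqU⟩, ?_⟩
    show (jU ≫ fst X G).left ⟨κ.left q, hqU⟩ = x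
    refine (Scheme.Hom.comp_apply jU.left (fst X G).left _).trans ?_
    show (fst X G).left (κ.left q) = x
    refine (Scheme.Hom.comp_apply κ.left (fst X G).left q).symm.trans ?_
    rw [← Over.comp_left, lift_fst]
    exact (Scheme.Hom.comp_apply pr.left p.left q).trans (hp _)
  · have := hmem (some j)
    simpa only [m, Option.elim, MonObj.comp_mul, Category.assoc] using this

/-- Every point is, after a flat surjection, a quotient of two points of the cell. -/
theorem Sys.exists_div (st : Sys i α pp pm) (hG : Conn G) {X : Over S} (g : X ⟶ G) :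
    ∃ (X' : Over S) (π : X' ⟶ X) (_ : Flat π.left) (_ : LocallyOfFinitePresentation π.left) (_ : Surjective π.left)
      (c d : X' ⟶ G), InCell i pp pm c ∧ InCell i pp pm d ∧ π ≫ g = c * d⁻¹ := by
  obtain ⟨X', π, h1, h2, h3, e, he, hj⟩ := st.exists_translate hG fun _ : PUnit.{1} => g
  exact ⟨X', π, h1, h2, h3, _, e, hj ⟨⟩, he, (mul_inv_cancel_right _ _).symm⟩

end Groth.Agent.BigCell
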