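import Groth.Agent.BigCellLib.Isogeny

/-!
# Generators and relations in semisimple rank one

Torus, positive root group and one element `h` with the four relations give the negative root group
`y ↦ h P(-y) h⁻¹` and the commutation rule.
-/

set_option autoImplicit false
set_option maxHeartbeats 1000000
universe u

open CategoryTheory CategoryTheory.Limits MonoidalCategory CartesianMonoidalCategory AlgebraicGeometry
open Groth.Agent.GaPts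
open Groth.Agent.RankOne (eq_ptOf comp_ptOf)
open scoped MonObj

noncomputable section

namespace Groth.Agent.BigCell

variable {S : Scheme.{u}}

theorem exists_lift_unit {T : Over S} [GrpObj T] (hT : Red.IsTorus T) (α : T ⟶ Red.Gm S) [IsMonHom α]
    (hα : ∀ s : S, (Over.pullback (Red.geomPt s)).map α ≠ 1) {X : Over S} (z : (Γ(X.left, ⊤))ˣ) :
    ∃ (X' : Over S) (π : X' ⟶ X) (_ : Epi π) (t : X' ⟶ T),
      av' α t = Units.map π.left.appTop.hom.toMonoidHom z := by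
  obtain ⟨X', π, _, _, t, ht⟩ := exists_lift hT α hα z
  exact ⟨X', π, epi_of_flat π, t, Units.ext ht⟩

theorem ptOf_neg_one_smul (X : Over S) (a : Γ(X.left, ⊤)) :
    (ptOf a : X ⟶ Red.Ga S) ≫ ptOf (-Red.gaFn (𝟙 (Red.Ga S))) = ptOf (-a) := by
  rw [comp_ptOf, map_neg, ← gaFn_comp, Category.comp_id, gaFn_ptOf]

variable {G T H : Over S} [GrpObj G] [GrpObj T] [GrpObj H] {i : T ⟶ G} {α : T ⟶ Red.Gm S} {pp pm : Red.Ga S ⟶ G}
    {av : Red.Gm S ⟶ T}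

/-- `y ↦ h P(-y) h⁻¹`. -/
def negRootOf (fα : Red.Ga S ⟶ H) (h : 𝟙_ (Over S) ⟶ H) : Red.Ga S ⟶ H :=
  (toUnit _ ≫ h) * rt fα (-Red.gaFn (𝟙 (Red.Ga S))) * (toUnit _ ≫ h)⁻¹

theorem rt_negRootOf (fα : Red.Ga S ⟶ H) (h : 𝟙_ (Over S) ⟶ H) {X : Over S} (a : Γ(X.left, ⊤)) :
    rt (negRootOf fα h) a = (toUnit X ≫ h) * rt fα (-a) * (toUnit X ≫ h)⁻¹ := by
  rw [rt, negRootOf, MonObj.comp_mul, MonObj.comp_mul, GrpObj.comp_inv, ← Category.assoc _ (toUnit _) h, comp_toUnit,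
    rt, ← Category.assoc _ _ fα, ptOf_neg_one_smul]

theorem isMonHom_negRootOf (fα : Red.Ga S ⟶ H) [IsMonHom fα] (h : 𝟙_ (Over S) ⟶ H) :
    IsMonHom (negRootOf fα h) :=
  isMonHom_of_mul' _ fun X a b => by
    rw [rt_eq _ (a * b) (gaFn_mul a b), rt_eq _ a rfl, rt_eq _ b rfl, rt_negRootOf, rt_negRootOf, rt_negRootOf,
      neg_add, rt_add]
    group

/-- The four relations, on points. -/
structure Rel4 (st : Sys1 i α pp pm av) (fT : T ⟶ H) (fα : Red.Ga S ⟶ H) (h : 𝟙_ (Over S) ⟶ H) : Prop where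
  h1 : ∀ (X : Over S) (t : X ⟶ T) (a : Γ(X.left, ⊤)),
    (t ≫ fT) * rt fα a * (t ≫ fT)⁻¹ = rt fα ((av' α t : Γ(X.left, ⊤)) * a)
  h2 : ∀ (X : Over S) (t : X ⟶ T),
    (toUnit X ≫ h) * (t ≫ fT) * (toUnit X ≫ h)⁻¹ = (t * ((st.D X).c (av' α t))⁻¹) ≫ fT
  h3 : ∀ X : Over S, (toUnit X ≫ h) ^ 2 = (st.D X).c (-1) ≫ fT
  h4 : ∀ X : Over S, ((toUnit X ≫ h) * rt fα (1 : Γ(X.left, ⊤))) ^ 3 = 1

variable (st : Sys1 i α pp pm av) {fT : T ⟶ H} [IsMonHom fT] {fα : Red.Ga S ⟶ H} [IsMonHom fα]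
    {h : 𝟙_ (Over S) ⟶ H}

/-- The image of the coroot. -/
abbrev Sys1.coA (st : Sys1 i α pp pm av) (fT : T ⟶ H) {X : Over S} (z : (Γ(X.left, ⊤))ˣ) : X ⟶ H :=
  (st.D X).c z ≫ fT

theorem Sys1.coA_mul {X : Over S} (z z' : (Γ(X.left, ⊤))ˣ) :
    st.coA fT (z * z') = st.coA fT z * st.coA fT z' := by
  simp only [Sys1.coA, map_mul, MonObj.mul_comp]

theorem Sys1.coA_inv {X : Over S} (z : (Γ(X.left, ⊤))ˣ) : st.coA fT z⁻¹ = (st.coA fT z)⁻¹ := by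
  simp only [Sys1.coA, map_inv, GrpObj.inv_comp]

omit [IsMonHom fT] [IsMonHom fα] in
theorem Rel4.coA_P {st : Sys1 i α pp pm av} (r : Rel4 st fT fα h) {X : Over S} (z : (Γ(X.left, ⊤))ˣ)
    (a : Γ(X.left, ⊤)) :
    st.coA fT z * rt fα a = rt fα ((z : Γ(X.left, ⊤)) ^ 2 * a) * st.coA fT z := by
  have := r.h1 X ((st.D X).c z) a
  rw [show av' α ((st.D X).c z) = z ^ 2 from (st.D X).a_c z, Units.val_pow_eq_pow_val, mul_inv_eq_iff_eq_mul] at this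
  exact this

theorem Rel4.k_coA {st : Sys1 i α pp pm av} (r : Rel4 st fT fα h) {X : Over S} (z : (Γ(X.left, ⊤))ˣ) :
    (toUnit X ≫ h) * st.coA fT z = (st.coA fT z)⁻¹ * (toUnit X ≫ h) := by
  have := r.h2 X ((st.D X).c z)
  rw [show av' α ((st.D X).c z) = z ^ 2 from (st.D X).a_c z, map_pow, pow_two, mul_inv_rev, ← _root_.mul_assoc,
    mul_inv_cancel, _root_.one_mul, GrpObj.inv_comp, mul_inv_eq_iff_eq_mul] at this
  exact this

/-- `P(1) M(-1) P(1) = h`. -/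
theorem Rel4.weyl {st : Sys1 i α pp pm av} (r : Rel4 st fT fα h) (X : Over S) :
    rt fα (1 : Γ(X.left, ⊤)) * rt (negRootOf fα h) (-1 : Γ(X.left, ⊤)) * rt fα (1 : Γ(X.left, ⊤)) =
      toUnit X ≫ h := by
  haveI := st.mon_av
  set k := toUnit X ≫ h with hk
  set p := rt fα (1 : Γ(X.left, ⊤)) with hp
  set a₀ := st.coA fT (-1 : (Γ(X.left, ⊤))ˣ) with ha₀
  have e4 : k * p * (k * p) * (k * p) = 1 := by rw [← pow_two, ← pow_succ]; exact r.h4 X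
  have hA1 : a₀ * p = p * a₀ := by rw [ha₀, hp, r.coA_P]; simp
  have hA2 : a₀ * a₀ = 1 := by
    rw [ha₀, ← st.coA_mul]; simp only [Sys1.coA, neg_mul_neg, _root_.one_mul, map_one, MonObj.one_comp]
  have hk2 : k * k = a₀ := by rw [← pow_two]; exact r.h3 X
  rw [rt_negRootOf, neg_neg, ← hp, ← hk]
  have e5 : p * k * p = k⁻¹ * p⁻¹ * k⁻¹ := by
    calc p * k * p = k⁻¹ * (k * p * (k * p) * (k * p)) * p⁻¹ * k⁻¹ := by group
      _ = _ := by rw [e4, _root_.mul_one]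
  calc p * (k * p * k⁻¹) * p = p * k * p * (k⁻¹ * p) := by group
    _ = k⁻¹ * p⁻¹ * (k * k)⁻¹ * p := by rw [e5]; group
    _ = k⁻¹ * (p⁻¹ * (a₀⁻¹ * p)) := by rw [hk2]; group
    _ = k⁻¹ * a₀⁻¹ := by
        rw [show a₀⁻¹ * p = p * a₀⁻¹ by
          rw [inv_mul_eq_iff_eq_mul, ← _root_.mul_assoc, hA1, mul_inv_cancel_right]]
        group
    _ = k * (a₀ * (k * k))⁻¹ := by group
    _ = k := by rw [hk2, hA2, inv_one, _root_.mul_one]

/-- The torus on the negative root group. -/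
theorem Rel4.conjM {st : Sys1 i α pp pm av} (r : Rel4 st fT fα h) {X : Over S} (t : X ⟶ T) (a : Γ(X.left, ⊤)) :
    (t ≫ fT) * rt (negRootOf fα h) a * (t ≫ fT)⁻¹ =
      rt (negRootOf fα h) ((((av' α t)⁻¹ : (Γ(X.left, ⊤))ˣ) : Γ(X.left, ⊤)) * a) := by
  let s := t * ((st.D X).c (av' α t))⁻¹
  have hs : av' α s = (av' α t)⁻¹ := by
    show (st.D X).a (t * ((st.D X).c (av' α t))⁻¹) = _
    rw [map_mul, map_inv, (st.D X).a_c]
    show av' α t * (av' α t ^ 2)⁻¹ = _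
    rw [pow_two, mul_inv_rev, ← _root_.mul_assoc, mul_inv_cancel, _root_.one_mul]
  have hs2 : s * ((st.D X).c (av' α s))⁻¹ = t := by
    rw [hs, map_inv, _root_.inv_inv, inv_mul_cancel_right]
  have e := r.h2 X s
  rw [hs2] at e
  rw [rt_negRootOf, rt_negRootOf, neg_mul_eq_mul_neg, ← hs, ← r.h1, ← e]
  group

/-- `P(u) M(-1/u) P(u)` for a unit `u`. -/
theorem Rel4.weyl_unit {st : Sys1 i α pp pm av} (r : Rel4 st fT fα h) (hT : Red.IsTorus T)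
    (hα : ∀ s : S, (Over.pullback (Red.geomPt s)).map α ≠ 1) {X : Over S} (u : (Γ(X.left, ⊤))ˣ) :
    rt fα (u : Γ(X.left, ⊤)) * rt (negRootOf fα h) (-((u⁻¹ : (Γ(X.left, ⊤))ˣ) : Γ(X.left, ⊤))) *
      rt fα (u : Γ(X.left, ⊤)) = st.coA fT u * (toUnit X ≫ h) := by
  haveI := st.sys.mon_α
  obtain ⟨X', π, hπ, t, ht⟩ := exists_lift_unit hT α hα u
  haveI := hπ
  rw [← cancel_epi π, MonObj.comp_mul, MonObj.comp_mul, MonObj.comp_mul, Sys1.coA,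
    ← Category.assoc π (toUnit X) h, comp_toUnit, ← Category.assoc π ((st.D X).c u) fT, st.comp_c π u,
    comp_rt, comp_rt, map_neg]
  change rt fα ((Units.map π.left.appTop.hom.toMonoidHom u : (Γ(X'.left, ⊤))ˣ) : Γ(X'.left, ⊤)) *
    rt (negRootOf fα h) (-(((Units.map π.left.appTop.hom.toMonoidHom u)⁻¹ : (Γ(X'.left, ⊤))ˣ) : Γ(X'.left, ⊤))) *
    rt fα ((Units.map π.left.appTop.hom.toMonoidHom u : (Γ(X'.left, ⊤))ˣ) : Γ(X'.left, ⊤)) = _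
  rw [← ht]
  calc rt fα (av' α t : Γ(X'.left, ⊤)) *
        rt (negRootOf fα h) (-(((av' α t)⁻¹ : (Γ(X'.left, ⊤))ˣ) : Γ(X'.left, ⊤))) *
        rt fα (av' α t : Γ(X'.left, ⊤))
      = ((t ≫ fT) * rt fα 1 * (t ≫ fT)⁻¹) * ((t ≫ fT) * rt (negRootOf fα h) (-1) * (t ≫ fT)⁻¹) *
          ((t ≫ fT) * rt fα 1 * (t ≫ fT)⁻¹) := by rw [r.h1, r.conjM, mul_one, mul_neg, mul_one]
    _ = (t ≫ fT) * (rt fα 1 * rt (negRootOf fα h) (-1) * rt fα 1) * (t ≫ fT)⁻¹ := by group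
    _ = (t ≫ fT) * (toUnit X' ≫ h) * (t ≫ fT)⁻¹ := by rw [r.weyl]
    _ = st.coA fT (av' α t) * (toUnit X' ≫ h) := by
        have e := r.h2 X' t
        rw [mul_inv_eq_iff_eq_mul] at e
        rw [mul_inv_eq_iff_eq_mul, _root_.mul_assoc (st.coA fT _), e, ← _root_.mul_assoc, Sys1.coA,
          ← MonObj.mul_comp, torus_comm hT t, ← _root_.mul_assoc, mul_inv_cancel, _root_.one_mul]

theorem Rel4.negRoot_eq {st : Sys1 i α pp pm av} (r : Rel4 st fT fα h) (hT : Red.IsTorus T)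
    (hα : ∀ s : S, (Over.pullback (Red.geomPt s)).map α ≠ 1) {X : Over S} (v : (Γ(X.left, ⊤))ˣ) :
    rt (negRootOf fα h) (v : Γ(X.left, ⊤)) = rt fα ((v⁻¹ : (Γ(X.left, ⊤))ˣ) : Γ(X.left, ⊤)) *
      (st.coA fT (-v⁻¹) * (toUnit X ≫ h)) * rt fα ((v⁻¹ : (Γ(X.left, ⊤))ˣ) : Γ(X.left, ⊤)) := by
  have := r.weyl_unit hT hα (-v⁻¹)
  rw [inv_neg, _root_.inv_inv, Units.val_neg, Units.val_neg, neg_neg, rt_neg] at this
  rw [← this]
  group

/-- The commutation rule when `y` is a unit. -/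
theorem Rel4.F_unit {st : Sys1 i α pp pm av} (r : Rel4 st fT fα h) (hT : Red.IsTorus T)
    (hα : ∀ s : S, (Over.pullback (Red.geomPt s)).map α ≠ 1) {X : Over S} (x : Γ(X.left, ⊤))
    (y z : (Γ(X.left, ⊤))ˣ) (hz : (z : Γ(X.left, ⊤)) = 1 + x * y) :
    rt fα x * rt (negRootOf fα h) (y : Γ(X.left, ⊤)) =
      rt (negRootOf fα h) ((y : Γ(X.left, ⊤)) * ((z⁻¹ : (Γ(X.left, ⊤))ˣ) : Γ(X.left, ⊤))) * st.coA fT z *
        rt fα (x * ((z⁻¹ : (Γ(X.left, ⊤))ˣ) : Γ(X.left, ⊤))) := by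
  set k := toUnit X ≫ h with hk
  set Y : Γ(X.left, ⊤) := (y : Γ(X.left, ⊤)) with hY
  set Yi : Γ(X.left, ⊤) := ((y⁻¹ : (Γ(X.left, ⊤))ˣ) : Γ(X.left, ⊤)) with hYi
  set Z : Γ(X.left, ⊤) := (z : Γ(X.left, ⊤)) with hZ
  set Zi : Γ(X.left, ⊤) := ((z⁻¹ : (Γ(X.left, ⊤))ˣ) : Γ(X.left, ⊤)) with hZi
  have ey : Y * Yi = 1 := by simp [hY, hYi]
  have ez : Z * Zi = 1 := by simp [hZ, hZi]
  have hl : rt (negRootOf fα h) Y = rt fα Yi * (st.coA fT (-y⁻¹) * k) * rt fα Yi := r.negRoot_eq hT hα y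
  have hr : rt (negRootOf fα h) (Y * Zi) =
      rt fα (Yi * Z) * (st.coA fT (-(y⁻¹ * z)) * k) * rt fα (Yi * Z) := by
    have := r.negRoot_eq hT hα (y * z⁻¹)
    rw [mul_inv, _root_.inv_inv, Units.val_mul, Units.val_mul] at this
    exact this
  rw [hl, hr]
  have e1 : rt fα (Yi * Z) * st.coA fT z = st.coA fT z * rt fα (Yi * Zi) := by
    rw [r.coA_P]
    congr 2
    rw [← hZ]
    linear_combination -(Z * Yi) * ez
  calc rt fα x * (rt fα Yi * (st.coA fT (-y⁻¹) * k) * rt fα Yi)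
      = rt fα (x + Yi) * (st.coA fT (-y⁻¹) * k) * rt fα Yi := by rw [rt_add]; group
    _ = rt fα (Yi * Z) * (st.coA fT (-(y⁻¹ * z)) * (st.coA fT z)⁻¹ * k) * rt fα (Yi * Zi + x * Zi) := by
        rw [← st.coA_inv, ← st.coA_mul, neg_mul, mul_inv_cancel_right]
        congr 2
        · congr 1
          linear_combination -Yi * hz - x * ey
        · linear_combination Yi * Zi * hz + x * Zi * ey - Yi * ez
    _ = rt fα (Yi * Z) * (st.coA fT (-(y⁻¹ * z)) * (k * st.coA fT z)) * rt fα (Yi * Zi + x * Zi) := by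
        rw [hk, r.k_coA]; group
    _ = rt fα (Yi * Z) * (st.coA fT (-(y⁻¹ * z)) * k) * (st.coA fT z * rt fα (Yi * Zi)) * rt fα (x * Zi) := by
        rw [rt_add]; group
    _ = _ := by rw [← e1]; group

/-- The commutation rule. -/
theorem Rel4.F {st : Sys1 i α pp pm av} (r : Rel4 st fT fα h) (hT : Red.IsTorus T)
    (hα : ∀ s : S, (Over.pullback (Red.geomPt s)).map α ≠ 1) {X : Over S} (x y : Γ(X.left, ⊤))
    (z : (Γ(X.left, ⊤))ˣ) (hz : (z : Γ(X.left, ⊤)) = 1 + x * y) :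
    rt fα x * rt (negRootOf fα h) y =
      rt (negRootOf fα h) (y * ((z⁻¹ : (Γ(X.left, ⊤))ˣ) : Γ(X.left, ⊤))) * st.coA fT z *
        rt fα (x * ((z⁻¹ : (Γ(X.left, ⊤))ˣ) : Γ(X.left, ⊤))) := by
  haveI := isMonHom_negRootOf fα h
  obtain ⟨X', π, hπ, s, hs⟩ := exists_param X ![1, -1, x] ![0, y, 1]
    (fun j => by fin_cases j <;> first | exact Or.inl isUnit_one | exact Or.inl isUnit_one.neg | exact Or.inr isUnit_one)
  haveI := hπ
  have h0 := hs 0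
  have h1' := hs 1
  have h2' := hs 2
  simp only [Matrix.cons_val_zero, Matrix.cons_val_one, Matrix.cons_val_two, Matrix.head_cons, Matrix.tail_cons,
    map_one, map_zero, map_neg, one_mul, add_zero, neg_mul] at h0 h1' h2'
  rw [← cancel_epi π, MonObj.comp_mul, MonObj.comp_mul, MonObj.comp_mul, comp_rt, comp_rt, comp_rt, comp_rt,
    map_mul, map_mul, Sys1.coA, ← Category.assoc, st.comp_c π z]
  let z' : (Γ(X'.left, ⊤))ˣ := Units.map π.left.appTop.hom.toMonoidHom z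
  let f : Γ(X.left, ⊤) →+* Γ(X'.left, ⊤) := π.left.appTop.hom
  change rt fα (f x) * rt (negRootOf fα h) (f y) =
    rt (negRootOf fα h) (f y * ((z'⁻¹ : (Γ(X'.left, ⊤))ˣ) : Γ(X'.left, ⊤))) * st.coA fT z' *
      rt fα (f x * ((z'⁻¹ : (Γ(X'.left, ⊤))ˣ) : Γ(X'.left, ⊤)))
  have hzf : (z' : Γ(X'.left, ⊤)) = 1 + f x * f y := by
    show f (z : Γ(X.left, ⊤)) = _
    rw [hz, map_add, map_mul, map_one]
  change IsUnit (f x * s + 1) at h2'
  change IsUnit (-s + f y) at h1'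
  obtain ⟨v₁, hv₁⟩ := h0
  obtain ⟨v₂, hv₂⟩ := h1'
  obtain ⟨z₁, hz₁⟩ := h2'
  set Zi₁ : Γ(X'.left, ⊤) := ((z₁⁻¹ : (Γ(X'.left, ⊤))ˣ) : Γ(X'.left, ⊤)) with hZi₁
  have ez₁ : (z₁ : Γ(X'.left, ⊤)) * Zi₁ = 1 := by simp [hZi₁]
  have e₁ := r.F_unit hT hα (f x) v₁ z₁ (by rw [hz₁, hv₁]; ring)
  have hy : f y = (v₁ : Γ(X'.left, ⊤)) + v₂ := by rw [hv₁, hv₂]; ring
  have e₂ := r.F_unit hT hα (f x * Zi₁) v₂ (z' * z₁⁻¹) (by
    rw [Units.val_mul, hzf, ← hZi₁]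
    linear_combination (1 : Γ(X'.left, ⊤)) * ez₁ - Zi₁ * hz₁ + (f x * Zi₁) * hy + (f x * Zi₁) * hv₁)
  set W : Γ(X'.left, ⊤) := ((z'⁻¹ : (Γ(X'.left, ⊤))ˣ) : Γ(X'.left, ⊤)) with hW
  have hzi : (((z' * z₁⁻¹)⁻¹ : (Γ(X'.left, ⊤))ˣ) : Γ(X'.left, ⊤)) = (z₁ : Γ(X'.left, ⊤)) * W := by
    rw [mul_inv_rev, _root_.inv_inv, Units.val_mul]
  rw [hzi] at e₂
  rw [← hZi₁] at e₁
  have hmA : ∀ a : Γ(X'.left, ⊤), st.coA fT z₁ * rt (negRootOf fα h) a =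
      rt (negRootOf fα h) (Zi₁ ^ 2 * a) * st.coA fT z₁ := fun a => by
    have := r.conjM ((st.D X').c z₁) a
    rw [show av' α ((st.D X').c z₁) = z₁ ^ 2 from (st.D X').a_c z₁, ← inv_pow, Units.val_pow_eq_pow_val,
      mul_inv_eq_iff_eq_mul] at this
    exact this
  have hzA : st.coA fT z₁ * st.coA fT (z' * z₁⁻¹) = st.coA fT z' := by
    rw [← st.coA_mul, mul_comm z', mul_inv_cancel_left]
  have ew : (1 + f x * f y) * W = 1 := by rw [← hzf, hW, Units.mul_inv]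
  have a1 : (v₁ : Γ(X'.left, ⊤)) * Zi₁ + Zi₁ ^ 2 * ((v₂ : Γ(X'.left, ⊤)) * ((z₁ : Γ(X'.left, ⊤)) * W)) =
      f y * W := by
    linear_combination (v₂ : Γ(X'.left, ⊤)) * W * Zi₁ * ez₁ - (v₁ : Γ(X'.left, ⊤)) * Zi₁ * ew +
      f y * W * ez₁ - (f y * W * Zi₁) * hz₁ - W * Zi₁ * hy + (f x * f y * W * Zi₁) * hv₁
  have a2 : f x * Zi₁ * ((z₁ : Γ(X'.left, ⊤)) * W) = f x * W := by linear_combination f x * W * ez₁
  rw [a2] at e₂
  conv_lhs => rw [hy, rt_add, ← _root_.mul_assoc, e₁]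
  calc rt (negRootOf fα h) ((v₁ : Γ(X'.left, ⊤)) * Zi₁) * st.coA fT z₁ * rt fα (f x * Zi₁) *
        rt (negRootOf fα h) (v₂ : Γ(X'.left, ⊤))
      = rt (negRootOf fα h) ((v₁ : Γ(X'.left, ⊤)) * Zi₁) * st.coA fT z₁ *
          (rt fα (f x * Zi₁) * rt (negRootOf fα h) (v₂ : Γ(X'.left, ⊤))) := by group
    _ = rt (negRootOf fα h) ((v₁ : Γ(X'.left, ⊤)) * Zi₁) *
          (st.coA fT z₁ * rt (negRootOf fα h) ((v₂ : Γ(X'.left, ⊤)) * ((z₁ : Γ(X'.left, ⊤)) * W))) *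
          st.coA fT (z' * z₁⁻¹) * rt fα (f x * W) := by rw [e₂]; group
    _ = rt (negRootOf fα h) (f y * W) * (st.coA fT z₁ * st.coA fT (z' * z₁⁻¹)) * rt fα (f x * W) := by
        rw [hmA, ← a1, rt_add]; group
    _ = _ := by rw [hzA]

/-- The relations give the hypotheses of the commutation calculus. -/
theorem Rel4.setup {st : Sys1 i α pp pm av} (r : Rel4 st fT fα h) (hT : Red.IsTorus T)
    (hα : ∀ s : S, (Over.pullback (Red.geomPt s)).map α ≠ 1) :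
    RankOne.Setup fT α fα (negRootOf fα h) av := by
  haveI := st.sys.mon_α
  haveI := st.mon_av
  haveI := isMonHom_negRootOf fα h
  refine mkSetup st.h2 r.h1 (fun X t a => r.conjM t a) fun X x y z hz => ?_
  rw [r.F hT hα x y z hz, ← Category.assoc]
  rfl

end Groth.Agent.BigCell
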