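import Groth.Agent.CorootLib.Main
import Groth.Agent.BigCellLib.Gen

/-!
# The root groups and their products with the torus are closed

`G` is the union of the cell and its translate by a Weyl element, and the translate misses `T·U₊`.
-/

set_option autoImplicit false
set_option maxHeartbeats 1000000
universe u

open CategoryTheory CategoryTheory.Limits MonoidalCategory CartesianMonoidalCategory AlgebraicGeometry
open Groth.Agent.GaPts
open Groth.Agent.RankOne (eq_ptOf comp_ptOf)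
open scoped MonObj

noncomputable section

namespace Groth.Agent.BigCell

variable {S : Scheme.{u}} {G T : Over S} [GrpObj G] [GrpObj T] {i : T ⟶ G} {α : T ⟶ Red.Gm S}
    {pp pm : Red.Ga S ⟶ G} {av : Red.Gm S ⟶ T}

theorem Sys1.w_inv_M_w (st : Sys1 i α pp pm av) {X : Over S} (y : Γ(X.left, ⊤)) :
    ((st.D X).w 1)⁻¹ * rt pm y * (st.D X).w 1 = rt pp (-y) := by
  haveI := st.sys.mon_pp
  haveI := st.sys.mon_pm
  let w₀ := (st.D (𝟙_ (Over S))).w 1
  haveI := isMonHom_negRootOf pp w₀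
  have hw : ∀ Y : Over S, toUnit Y ≫ w₀ = (st.D Y).w 1 := fun Y => by rw [st.comp_w, map_one]
  have he : pm = negRootOf pp w₀ := by
    refine hom_ext_units fun Y v => ?_
    rw [rt_negRootOf, hw]
    let D := st.D Y
    have e0 := st.setup.w_P Y (-v)
    have e1 : D.w (-v) = D.h (-v) * D.w 1 := by rw [← D.w_scale, _root_.mul_one]
    change D.w (-v) * _ * (D.w (-v))⁻¹ = D.M _ at e0
    rw [e1] at e0
    symm
    show D.w 1 * D.P _ * (D.w 1)⁻¹ = D.M _
    calc D.w 1 * D.P (-(v : Γ(Y.left, ⊤))) * (D.w 1)⁻¹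
        = (D.h (-v))⁻¹ * (D.h (-v) * D.w 1 * D.P ((-v : (Γ(Y.left, ⊤))ˣ) : Γ(Y.left, ⊤)) * (D.h (-v) * D.w 1)⁻¹) *
            D.h (-v) := by rw [Units.val_neg]; group
      _ = _ := by
        rw [e0, ← map_inv, D.h_M, inv_inv, _root_.mul_assoc, ← map_mul, inv_mul_cancel, map_one, _root_.mul_one]
        congr 1
        rw [Units.val_neg, inv_neg, Units.val_neg]
        linear_combination (v : Γ(Y.left, ⊤)) * v.mul_inv
  rw [show rt pm y = rt (negRootOf pp w₀) y from congrArg (fun p => rt p y) he, rt_negRootOf, hw]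
  group

/-- Left translation by the inverse of the Weyl element. -/
def Sys1.trans (st : Sys1 i α pp pm av) : G ⟶ G := ((st.D G).w 1)⁻¹ * 𝟙 G

theorem Sys1.comp_trans (st : Sys1 i α pp pm av) {X : Over S} (g : X ⟶ G) :
    g ≫ st.trans = ((st.D X).w 1)⁻¹ * g := by
  rw [Sys1.trans, MonObj.comp_mul, GrpObj.comp_inv, st.comp_w, map_one, Category.comp_id]

/-- `T·U₊`. -/
def borelHom (i : T ⟶ G) (pp : Red.Ga S ⟶ G) : T ⊗ Red.Ga S ⟶ G := (i ⊗ₘ pp) ≫ μ[G]

omit [GrpObj T] in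
theorem lift_borelHom (i : T ⟶ G) (pp : Red.Ga S ⟶ G) {X : Over S} (t : X ⟶ T) (x : X ⟶ Red.Ga S) :
    lift t x ≫ borelHom i pp = (t ≫ i) * (x ≫ pp) := by
  rw [borelHom, lift_map_assoc, Hom.mul_def]

omit [GrpObj T] in
theorem comp_borelHom (i : T ⟶ G) (pp : Red.Ga S ⟶ G) {X : Over S} (g : X ⟶ T ⊗ Red.Ga S) :
    g ≫ borelHom i pp = ((g ≫ fst _ _) ≫ i) * rt pp (Red.gaFn (g ≫ snd _ _)) := by
  conv_lhs => rw [show g = lift (g ≫ fst _ _) (g ≫ snd _ _) by ext <;> simp]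
  rw [lift_borelHom, rt_eq pp _ rfl]

/-- The section `(t, x) ↦ (0, t, x)`. -/
def borelSec (T : Over S) : T ⊗ Red.Ga S ⟶ (Red.Ga S ⊗ T) ⊗ Red.Ga S :=
  lift (lift (ptOf 0) (fst _ _)) (snd _ _)

theorem Sys.borelSec_comp (st : Sys i α pp pm) : borelSec T ≫ cellHom i pp pm = borelHom i pp := by
  haveI := st.mon_pm
  rw [borelSec, lift_cellHom, show ((ptOf 0 : T ⊗ Red.Ga S ⟶ Red.Ga S) ≫ pm) = 1 from rt_zero pm,
    _root_.one_mul, ← lift_borelHom i pp]
  conv_rhs => rw [← Category.id_comp (borelHom i pp)]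
  congr 1
  ext <;> simp

theorem isSeparated_Ga (S : Scheme.{u}) : IsSeparated (Red.Ga S).hom := by
  haveI : IsAffineHom Red.GaZ.{u}.hom := by
    change IsAffineHom (Spec.map _)
    infer_instance
  change IsSeparated (pullback.snd Red.GaZ.{u}.hom (Limits.IsTerminal.from specULiftZIsTerminal S))
  infer_instance

theorem isClosedImmersion_sec {A B : Over S} (s : A ⟶ B) (r : B ⟶ A) (h : s ≫ r = 𝟙 A) [IsSeparated r.left] :
    IsClosedImmersion s.left := by
  haveI : IsClosedImmersion (s.left ≫ r.left) := by rw [← Over.comp_left, h, Over.id_left]; infer_instance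
  exact IsClosedImmersion.of_comp s.left r.left

theorem isClosedImmersion_borelSec (T : Over S) : IsClosedImmersion (borelSec T).left := by
  haveI := isSeparated_Ga S
  let r : (Red.Ga S ⊗ T) ⊗ Red.Ga S ⟶ T ⊗ Red.Ga S := (snd _ _) ▷ _
  haveI : IsSeparated r.left := by
    haveI : IsSeparated (snd (Red.Ga S) T).left := by rw [Over.snd_left]; infer_instance
    exact prop_tensorHom' @IsSeparated (snd (Red.Ga S) T) inferInstance inferInstance
  exact isClosedImmersion_sec _ r (by ext <;> simp [r, borelSec])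
where
  prop_tensorHom' (P : MorphismProperty Scheme.{u}) [P.IsStableUnderBaseChange] [P.IsStableUnderComposition]
      {A A' B : Over S} (f : A ⟶ A') (hf : P f.left) (hid : P (𝟙 B.left)) : P (f ▷ B).left := by
    rw [Over.whiskerRight_left]
    exact P.pullbackMap hf hid (Over.w f).symm (Category.id_comp _).symm

/-- Every point lies in the cell or in its translate. -/
theorem Sys1.cover (st : Sys1 i α pp pm av) (hG : Conn G) (x : G.left) :
    x ∈ Set.range (cellHom i pp pm).left ∨ st.trans.left x ∈ Set.range (cellHom i pp pm).left := by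
  haveI := st.sys.hΩ
  haveI := st.sys.mon_i
  haveI := st.sys.mon_pp
  haveI := st.sys.mon_pm
  haveI := st.sys.mon_α
  obtain ⟨K, _, _, a, p, hp⟩ := exists_geomPt G x
  obtain ⟨X', π, _, _, _, c, d, ⟨y, t, u, rfl⟩, ⟨y', t', u', rfl⟩, he⟩ := st.sys.exists_div hG p
  obtain ⟨z, -⟩ := π.left.surjective (IsLocalRing.closedPoint K : PrimeSpectrum K)
  obtain ⟨L, _, _, b, r, -⟩ := exists_geomPt X' z
  let X₁ := fieldPt L b
  let f : Γ(X'.left, ⊤) →+* Γ(X₁.left, ⊤) := r.left.appTop.hom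
  let A := f u - f u'
  let t₂ := (r ≫ t')⁻¹
  let b₀ : Γ(X₁.left, ⊤) := (((av' α t₂)⁻¹ : (Γ(X₁.left, ⊤))ˣ) : Γ(X₁.left, ⊤)) * -f y'
  have hg : r ≫ π ≫ p = cell i pp pm (f y) (r ≫ t) A * cell i pp pm b₀ t₂ 0 := by
    rw [he, MonObj.comp_mul, GrpObj.comp_inv, comp_cell, comp_cell]
    simp only [A, b₀, t₂, f, cell, ← st.sys.conjM, sub_eq_add_neg, rt_add, rt_neg, rt_zero, GrpObj.inv_comp]
    group
  let pt : X₁.left := (IsLocalRing.closedPoint L : PrimeSpectrum L)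
  have hx : (r ≫ π ≫ p).left pt = x := by
    show ((r ≫ π).left ≫ p.left) pt = x
    rw [Scheme.Hom.comp_apply]
    exact hp _
  by_cases h0 : 1 + A * b₀ = 0
  · right
    have hA : A ≠ 0 := fun e => by
      haveI : Nontrivial Γ(X₁.left, ⊤) := (fieldFn L b).toEquiv.nontrivial
      rw [e, zero_mul, add_zero] at h0
      exact one_ne_zero h0
    obtain ⟨v, hv⟩ := isUnit_of_ne_zero hA
    have hb : b₀ = -((v⁻¹ : (Γ(X₁.left, ⊤))ˣ) : Γ(X₁.left, ⊤)) := RankOne.Data.w_mk v _ (by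
      rw [hv]; linear_combination h0)
    let D := st.D X₁
    have e1 : rt pp A * rt pm b₀ = D.w v * rt pp (-A) := by
      show _ = rt pp _ * rt pm _ * rt pp _ * _
      rw [← hb, hv, rt_neg, mul_inv_cancel_right]
    set T₁ := r ≫ t with hT₁
    let q : (Γ(X₁.left, ⊤))ˣ := av' α T₁ * v
    have e2 : (T₁ ≫ i) * D.w v = D.h q * D.w 1 * (T₁ ≫ i) := by
      rw [← mul_inv_eq_iff_eq_mul]
      refine (D.tor_w T₁ v).trans ?_
      rw [← D.w_scale, _root_.mul_one]
      rfl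
    have e3 : (D.w 1)⁻¹ * D.h q * D.w 1 = (D.h q)⁻¹ := by
      rw [_root_.mul_assoc, ← D.w_h, inv_mul_cancel_left]
    have hin : InCell i pp pm ((r ≫ π ≫ p) ≫ st.trans) := by
      let s := (D.c q)⁻¹ * T₁
      refine ⟨0, s * t₂, (av' α t₂⁻¹ : Γ(X₁.left, ⊤)) *
        ((av' α s⁻¹ : Γ(X₁.left, ⊤)) * (-f y) + -A), ?_⟩
      have e4 : (D.w 1)⁻¹ * rt pm (f y) = rt pp (-f y) * (D.w 1)⁻¹ := by
        rw [← st.w_inv_M_w (f y)]
        simp only [D, mul_inv_cancel_right]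
      have e5 : s ≫ i = (D.h q)⁻¹ * (T₁ ≫ i) := by
        rw [MonObj.mul_comp, GrpObj.inv_comp]
        rfl
      rw [st.comp_trans, hg]
      show (D.w 1)⁻¹ * (rt pm (f y) * (T₁ ≫ i) * rt pp A * (rt pm b₀ * (t₂ ≫ i) * rt pp 0)) = _
      rw [rt_zero, _root_.mul_one]
      calc (D.w 1)⁻¹ * (rt pm (f y) * (T₁ ≫ i) * rt pp A * (rt pm b₀ * (t₂ ≫ i)))
          = ((D.w 1)⁻¹ * rt pm (f y)) * (T₁ ≫ i) * (rt pp A * rt pm b₀) * (t₂ ≫ i) := by group
        _ = rt pp (-f y) * ((D.w 1)⁻¹ * ((T₁ ≫ i) * D.w v)) * rt pp (-A) * (t₂ ≫ i) := by rw [e4, e1]; group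
        _ = rt pp (-f y) * ((D.w 1)⁻¹ * D.h q * D.w 1) * (T₁ ≫ i) * rt pp (-A) * (t₂ ≫ i) := by rw [e2]; group
        _ = rt pp (-f y) * (s ≫ i) * rt pp (-A) * (t₂ ≫ i) := by rw [e3, e5]; group
        _ = _ := by
          simp only [cell, rt_zero, _root_.one_mul, rt_add, ← st.sys.conjP, GrpObj.inv_comp, MonObj.mul_comp]
          group
    have h1 := (inCell_iff_range st.sys.hΩ _).1 hin ⟨pt, rfl⟩
    rw [show ((r ≫ π ≫ p) ≫ st.trans).left pt = st.trans.left ((r ≫ π ≫ p).left pt) from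
      Scheme.Hom.comp_apply _ _ pt, hx] at h1
    exact h1
  · left
    obtain ⟨zu, hzu⟩ := isUnit_of_ne_zero h0
    have h1 := (inCell_iff_range st.sys.hΩ _).1 (show InCell i pp pm (r ≫ π ≫ p) from
      hg ▸ ⟨_, _, _, st.cell_mul _ _ _ _ _ _ zu hzu⟩) ⟨pt, rfl⟩
    rw [hx] at h1
    exact h1

/-- `T·U₊` misses the translate of the cell. -/
theorem Sys1.borel_not_mem (st : Sys1 i α pp pm av) (hc : ∀ (X : Over S) (a b : X ⟶ T), a * b = b * a)
    (z : (T ⊗ Red.Ga S).left) : st.trans.left ((borelHom i pp).left z) ∉ Set.range (cellHom i pp pm).left := by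
  haveI := st.sys.mon_i
  haveI := st.sys.mon_pp
  haveI := st.sys.mon_pm
  haveI := st.sys.mon_α
  intro hmem
  obtain ⟨K, _, _, a, p, hp⟩ := exists_geomPt (T ⊗ Red.Ga S) z
  let X := fieldPt K a
  let D := st.D X
  let pt : X.left := (IsLocalRing.closedPoint K : PrimeSpectrum K)
  have hin : InCell i pp pm (p ≫ borelHom i pp ≫ st.trans) := by
    refine (inCell_iff_range st.sys.hΩ _).2 ?_
    rintro _ ⟨y, rfl⟩
    rw [show (p ≫ borelHom i pp ≫ st.trans).left y = (borelHom i pp ≫ st.trans).left (p.left y) from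
      Scheme.Hom.comp_apply p.left _ y, hp y,
      show (borelHom i pp ≫ st.trans).left z = st.trans.left ((borelHom i pp).left z) from
        Scheme.Hom.comp_apply _ _ z]
    exact hmem
  rw [← Category.assoc, st.comp_trans, comp_borelHom] at hin
  set t := p ≫ fst _ _
  set x := Red.gaFn (p ≫ snd _ _)
  refine st.w_not_inCell hc a (-1) ?_
  have h1 := mul_cell_right st.sys t⁻¹ ((av' α t : Γ(X.left, ⊤)) * -x) hin
  convert h1 using 1
  rw [D.w_neg]
  simp only [← st.sys.conjP, rt_neg, GrpObj.inv_comp, D]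
  group
  rfl

/-- `T·U₊` is closed. -/
theorem Sys1.isClosedImmersion_borel (st : Sys1 i α pp pm av) (hG : Conn G)
    (hc : ∀ (X : Over S) (a b : X ⟶ T), a * b = b * a) : IsClosedImmersion (borelHom i pp).left := by
  haveI := st.sys.hΩ
  haveI := isClosedImmersion_borelSec T
  have he : (borelHom i pp).left = (borelSec T).left ≫ (cellHom i pp pm).left := by
    rw [← Over.comp_left, st.sys.borelSec_comp]
  haveI : IsPreimmersion (borelHom i pp).left := by rw [he]; infer_instance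
  refine IsClosedImmersion.of_isPreimmersion _ ⟨?_⟩
  let V : Set G.left := (cellHom i pp pm).left '' (Set.range (borelSec T).left)ᶜ
  let W : Set G.left := st.trans.left ⁻¹' Set.range (cellHom i pp pm).left
  have hV : IsOpen V :=
    (Scheme.Hom.isOpenEmbedding (cellHom i pp pm).left).isOpenMap _
      (borelSec T).left.isClosedEmbedding.isClosed_range.isOpen_compl
  have hW : IsOpen W := (Scheme.Hom.isOpenEmbedding (cellHom i pp pm).left).isOpen_range.preimage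
    st.trans.left.continuous
  have hr : ∀ z, (borelHom i pp).left z = (cellHom i pp pm).left ((borelSec T).left z) := fun z => by
    rw [he]
    exact Scheme.Hom.comp_apply _ _ z
  have hcompl : (Set.range (borelHom i pp).left)ᶜ = V ∪ W := by
    ext x
    constructor
    · intro hx
      rcases st.cover hG x with ⟨d, rfl⟩ | h
      · exact Or.inl ⟨d, fun ⟨z, hz⟩ => hx ⟨z, (hr z).trans (congrArg _ hz)⟩, rfl⟩
      · exact Or.inr h
    · rintro h ⟨z, rfl⟩
      rcases h with ⟨d, hd, hde⟩ | h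
      · exact hd ⟨z, ((Scheme.Hom.isOpenEmbedding (cellHom i pp pm).left).injective (hde.trans (hr z))).symm⟩
      · exact st.borel_not_mem hc z h
  rw [hcompl]
  exact hV.union hW

theorem id_eq_lift3 (A B C : Over S) :
    𝟙 ((A ⊗ B) ⊗ C) = lift (lift (fst _ _ ≫ fst _ _) (fst _ _ ≫ snd _ _)) (snd _ _) := by
  ext <;> simp

/-- The parametrisation of the cell by `𝟙`. -/
theorem cellHom_eq_cell (i : T ⟶ G) (pp pm : Red.Ga S ⟶ G) :
    cellHom i pp pm = cell i pp pm (Red.gaFn (fst _ _ ≫ fst _ _)) (fst _ _ ≫ snd _ _) (Red.gaFn (snd _ _)) := by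
  have e := id_eq_lift3 (Red.Ga S) T (Red.Ga S)
  conv_lhs => rw [← Category.id_comp (cellHom i pp pm), e]
  rw [lift_cellHom, rt_eq pm _ rfl, rt_eq pp _ rfl]

theorem av'_inv_hom (α : T ⟶ Red.Gm S) {X : Over S} (t : X ⟶ T) : av' α⁻¹ t = (av' α t)⁻¹ := by
  rw [av', av', GrpObj.comp_inv, GmPts.unitOfPt_inv]

theorem isMonHom_inv_hom (α : T ⟶ Red.Gm S) [IsMonHom α] : IsMonHom α⁻¹ :=
  isMonHom_of_mul' _ fun X a b => by
    rw [GrpObj.comp_inv, GrpObj.comp_inv, GrpObj.comp_inv, MonObj.mul_comp]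
    refine (GmPts.equiv X).injective ?_
    show GmPts.unitOfPt _ = GmPts.unitOfPt _
    rw [GmPts.unitOfPt_inv, GmPts.unitOfPt_mul, GmPts.unitOfPt_mul, GmPts.unitOfPt_inv, GmPts.unitOfPt_inv,
      mul_inv]

theorem map_inv_hom_ne_one {α : T ⟶ Red.Gm S} (hα : ∀ s : S, (Over.pullback (Red.geomPt s)).map α ≠ 1) (s : S) :
    (Over.pullback (Red.geomPt s)).map α⁻¹ ≠ 1 := by
  intro h
  refine hα s ?_
  have e : α = α⁻¹ ≫ GrpObj.inv := by rw [← Hom.inv_def, inv_inv]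
  rw [e, Functor.map_comp, h]
  exact (Hom.inv_def _).symm.trans inv_one

/-- Exchanging the two root groups. -/
theorem Sys.swap (st : Sys i α pp pm) : Sys i α⁻¹ pm pp := by
  haveI := st.mon_i
  haveI := st.mon_pp
  haveI := st.mon_pm
  haveI := st.mon_α
  haveI := st.hΩ
  refine ⟨st.mon_i, isMonHom_inv_hom α, st.mon_pm, st.mon_pp, fun X t x => ?_, fun X t y => ?_, ?_⟩
  · refine ⟨ptOf ((((av' α t)⁻¹ : (Γ(X.left, ⊤))ˣ) : Γ(X.left, ⊤)) * Red.gaFn x), ?_, ?_⟩
    · rw [rt_eq pm x rfl, st.conjM]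
    · rw [gaFn_ptOf, ← GmPts.val_unitOfPt]
      exact congrArg (fun u : (Γ(X.left, ⊤))ˣ => (u : Γ(X.left, ⊤)) * Red.gaFn x) (av'_inv_hom α t).symm
  · refine ⟨ptOf ((av' α t : Γ(X.left, ⊤)) * Red.gaFn y), ?_, ?_⟩
    · rw [rt_eq pp y rfl, st.conjP]
    · rw [gaFn_ptOf, ← GmPts.val_unitOfPt, show GmPts.unitOfPt (t ≫ α⁻¹) = (av' α t)⁻¹ from av'_inv_hom α t,
        _root_.mul_comm _ (Red.gaFn y), _root_.mul_assoc, Units.mul_inv, _root_.mul_one]
  · let D := (Red.Ga S ⊗ T) ⊗ Red.Ga S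
    let y : D ⟶ Red.Ga S := fst _ _ ≫ fst _ _
    let t : D ⟶ T := fst _ _ ≫ snd _ _
    let x : D ⟶ Red.Ga S := snd _ _
    let σ : D ⟶ D := lift (lift (ptOf (-Red.gaFn x)) t⁻¹) (ptOf (-Red.gaFn y))
    have hσy : σ ≫ y = ptOf (-Red.gaFn x) := by simp [σ, y]
    have hσt : σ ≫ t = t⁻¹ := by simp [σ, t]
    have hσx : σ ≫ x = ptOf (-Red.gaFn y) := by simp [σ, x]
    have hσ : σ ≫ σ = 𝟙 D := by
      have e : 𝟙 D = lift (lift y t) x := id_eq_lift3 _ _ _
      rw [e]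
      show σ ≫ lift (lift (ptOf (-Red.gaFn x)) t⁻¹) (ptOf (-Red.gaFn y)) = _
      rw [comp_lift, comp_lift, comp_ptOf, comp_ptOf, GrpObj.comp_inv, hσt, inv_inv, map_neg, map_neg, ← gaFn_comp,
        ← gaFn_comp, hσy, hσx, gaFn_ptOf, gaFn_ptOf, neg_neg, neg_neg, ← eq_ptOf y rfl, ← eq_ptOf x rfl]
    have he : cellHom i pm pp = σ ≫ cellHom i pp pm ≫ GrpObj.inv := by
      rw [← Category.assoc, ← Hom.inv_def]
      show _ = (lift (lift (ptOf (-Red.gaFn x)) t⁻¹) (ptOf (-Red.gaFn y)) ≫ cellHom i pp pm)⁻¹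
      rw [lift_cellHom, cellHom_eq_cell]
      show rt pp _ * _ * rt pm _ = (rt pm _ * _ * rt pp _)⁻¹
      simp only [rt_neg, GrpObj.inv_comp, mul_inv_rev, inv_inv, _root_.mul_assoc, x, y, t]
    haveI : IsIso σ := ⟨σ, hσ, hσ⟩
    haveI : IsIso (GrpObj.inv : G ⟶ G) := ⟨GrpObj.inv, by rw [← Hom.inv_def, ← Category.id_comp GrpObj.inv,
      ← Hom.inv_def, inv_inv], by rw [← Hom.inv_def, ← Category.id_comp GrpObj.inv,
      ← Hom.inv_def, inv_inv]⟩
    haveI : IsIso σ.left := ((Over.forget S).mapIso (asIso σ)).isIso_hom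
    haveI : IsIso (GrpObj.inv : G ⟶ G).left := ((Over.forget S).mapIso (asIso (GrpObj.inv : G ⟶ G))).isIso_hom
    show IsOpenImmersion (cellHom i pm pp).left
    rw [he, Over.comp_left, Over.comp_left]
    infer_instance

/-- The subgroups `U₊` and `T·U₊` are closed. -/
theorem Sys.closed_borel (st : Sys i α pp pm) (hG : Red.IsReductive G) (hT : Red.IsTorus T) [Mono i]
    (hα : ∀ s : S, (Over.pullback (Red.geomPt s)).map α ≠ 1) :
    IsClosedImmersion pp.left ∧ IsClosedImmersion (borelHom i pp).left := by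
  haveI := st.mon_i
  haveI := st.mon_pp
  haveI := st.mon_pm
  haveI := st.mon_α
  haveI := st.hΩ
  have hc := fun (X : Over S) (a b : X ⟶ T) => torus_comm hT a b
  have hnc : NonComm pp pm := fun s => st.not_commute hG hc s
  obtain ⟨a, hau, hspec⟩ := st.exists_coeff hT hα hnc
  have C : Coeff st a := ⟨hau, fun X _ => hspec X⟩
  let c : 𝟙_ (Over S) ⟶ Red.Gm S := GmPts.ptOfUnit hau.unit⁻¹
  have hcU : ∀ X : Over S, pull X a * (cU c X : Γ(X.left, ⊤)) = 1 := fun X => by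
    rw [cU, GmPts.val_unitOfPt, GmPts.gmFn_comp, GmPts.gmFn_ptOfUnit]
    show (toUnit X).left.appTop.hom a * (toUnit X).left.appTop.hom _ = _
    rw [← map_mul, IsUnit.mul_val_inv, map_one]
  haveI : IsMonHom (pw c 1) := isMonHom_pw c 1 fun _ _ _ => by simp only [pow_one]
  haveI : IsMonHom (pw c 1 ≫ pm) := inferInstance
  haveI := C.isMonHom_avPt hT hα hnc
  have hid : ∀ d : 𝟙_ (Over S) ⟶ Red.Gm S, pw d 1 ≫ pw d⁻¹ 1 = 𝟙 (Red.Ga S) := fun d => by
    refine gaFn_injective ?_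
    show Red.gaFn _ = Red.gaFn _
    rw [comp_pw, gaFn_ptOf, pw, gaFn_ptOf, pow_one, pow_one, cU_inv, ← _root_.mul_assoc, Units.inv_mul, _root_.one_mul]
  haveI : IsIso (pw c 1) := ⟨pw c⁻¹ 1, hid c, by simpa only [inv_inv] using hid c⁻¹⟩
  have st₁ : Sys1 i α pp (pw c 1 ≫ pm) (avPt st C hT hα hnc) := by
    refine ⟨⟨st.mon_i, st.mon_α, st.mon_pp, inferInstance, st.hpp, fun X t y => ?_, ?_⟩, inferInstance,
      C.avPt_comp_α hT hα hnc, fun X x y h => ?_⟩
    · refine ⟨ptOf ((((av' α t)⁻¹ : (Γ(X.left, ⊤))ˣ) : Γ(X.left, ⊤)) * Red.gaFn y), ?_, ?_⟩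
      · show rt (pw c 1 ≫ pm) _ = _
        rw [rt_eq (pw c 1 ≫ pm) y rfl, rt_pw, rt_pw, st.conjM, pow_one, pow_one, _root_.mul_left_comm]
      · rw [gaFn_ptOf, ← GmPts.val_unitOfPt, _root_.mul_right_comm, Units.inv_mul, _root_.one_mul]
    · show IsOpenImmersion (cellHom i pp (pw c 1 ≫ pm)).left
      have e : cellHom i pp (pw c 1 ≫ pm) = ((pw c 1 ⊗ₘ 𝟙 T) ⊗ₘ 𝟙 (Red.Ga S)) ≫ cellHom i pp pm := by
        simp only [cellHom, tensorHom_comp_tensorHom_assoc, tensorHom_comp_tensorHom, Category.id_comp]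
      haveI : IsIso (((pw c 1 ⊗ₘ 𝟙 T) ⊗ₘ 𝟙 (Red.Ga S))).left :=
        ((Over.forget S).mapIso (asIso ((pw c 1 ⊗ₘ 𝟙 T) ⊗ₘ 𝟙 (Red.Ga S)))).isIso_hom
      rw [e, Over.comp_left]
      infer_instance
    · refine ⟨ptOf (Red.gaFn x * ((h.unit⁻¹ : (Γ(X.left, ⊤))ˣ) : Γ(X.left, ⊤))),
        ptOf (Red.gaFn y * ((h.unit⁻¹ : (Γ(X.left, ⊤))ˣ) : Γ(X.left, ⊤))), GmPts.ptOfUnit h.unit, ?_, ?_, ?_, ?_⟩
      · rw [GmPts.gmFn_ptOfUnit, h.unit_spec]
      · rw [gaFn_ptOf, GmPts.gmFn_ptOfUnit, _root_.mul_assoc, Units.inv_mul, _root_.mul_one]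
      · rw [gaFn_ptOf, GmPts.gmFn_ptOfUnit, _root_.mul_assoc, Units.inv_mul, _root_.mul_one]
      · show _ = rt (pw c 1 ≫ pm) _ * _ * rt pp _
        rw [rt_eq pp x rfl, rt_eq (pw c 1 ≫ pm) y rfl, rt_pw, rt_pw, pow_one, pow_one,
          C.formula hT hα hnc _ _ h.unit (by
            rw [h.unit_spec]
            linear_combination -(Red.gaFn x * Red.gaFn y) * hcU X)]
        simp only [cell, Category.assoc, _root_.mul_assoc]
  have hB := st₁.isClosedImmersion_borel (conn_of_isReductive hG) hc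
  refine ⟨?_, hB⟩
  haveI := hG.1
  haveI : Mono i.left := (Over.forget S).map_mono i
  haveI : IsSeparated T.hom := by
    rw [← Over.w i]
    infer_instance
  haveI : IsSeparated (snd T (Red.Ga S)).left := by rw [Over.snd_left]; infer_instance
  haveI := isClosedImmersion_sec (lift (1 : Red.Ga S ⟶ T) (𝟙 _)) (snd _ _) (lift_snd _ _)
  have e : pp = lift (1 : Red.Ga S ⟶ T) (𝟙 _) ≫ borelHom i pp := by
    rw [lift_borelHom, MonObj.one_comp, _root_.one_mul, Category.id_comp]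
  rw [e, Over.comp_left]
  infer_instance

end Groth.Agent.BigCell
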