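import Groth.Agent.BigCellLib.Cell
import Groth.Agent.MultHomLib.ToGa

/-!
# The root groups do not commute in a reductive geometric fibre
-/

set_option autoImplicit false
set_option maxHeartbeats 1000000
universe u

open CategoryTheory CategoryTheory.Limits MonoidalCategory CartesianMonoidalCategory AlgebraicGeometry
open Groth.Agent.GaPts
open Groth.Agent.RankOne (eq_ptOf ptOf_add comp_ptOf)
open scoped MonObj

noncomputable section

namespace Groth.Agent.BigCell

open Groth.Agent.HomRep (bcEquiv bcEquiv_mul bcEquiv_symm_mul)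

variable {S : Scheme.{u}}

theorem smooth_Ga (S : Scheme.{u}) : Smooth (Red.Ga S).hom := by
  let Z := ULift.{u} ℤ
  haveI : Algebra.Smooth Z (MvPolynomial PUnit.{1} Z) := ⟨inferInstance, inferInstance⟩
  haveI : Algebra.Smooth Z (SymmetricAlgebra Z Z) :=
    Algebra.Smooth.of_equiv (SymmetricAlgebra.equivMvPolynomial (Module.Basis.singleton PUnit.{1} Z)).symm
  have h : Smooth Red.GaZ.{u}.hom := by
    change Smooth (Spec.map _)
    rw [HasRingHomProperty.Spec_iff (P := @Smooth)]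
    exact RingHom.smooth_algebraMap.2 inferInstance
  haveI := h
  change Smooth (pullback.snd Red.GaZ.{u}.hom (Limits.IsTerminal.from specULiftZIsTerminal S))
  infer_instance

theorem connectedSpace_Ga (K : Type u) [Field K] : ConnectedSpace (Red.Ga (Spec (CommRingCat.of K))).left := by
  let B := Polynomial K
  let P : Over (Spec (CommRingCat.of K)) := Over.mk (Spec.map (CommRingCat.ofHom (Polynomial.C : K →+* B)))
  let e : P ⟶ Red.Ga (Spec (CommRingCat.of K)) :=
    ptOf ((Scheme.ΓSpecIso (CommRingCat.of B)).inv Polynomial.X)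
  haveI : Surjective e.left := ⟨fun y => by
    obtain ⟨L, _, _, a, p, hp⟩ := exists_geomPt (Red.Ga (Spec (CommRingCat.of K))) y
    let c : L := fieldFn L a (Red.gaFn p)
    let ψ : B →+* L := Polynomial.eval₂RingHom (Spec.preimage a).hom c
    have hψ : Spec.map (CommRingCat.ofHom ψ) ≫ P.hom = a := by
      show Spec.map _ ≫ Spec.map _ = a
      rw [← Spec.map_comp, ← CommRingCat.ofHom_comp,
        show ψ.comp Polynomial.C = (Spec.preimage a).hom from RingHom.ext fun x => Polynomial.eval₂_C _ _,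
        CommRingCat.ofHom_hom, Spec.map_preimage]
    let q : fieldPt L a ⟶ P := Over.homMk (Spec.map (CommRingCat.ofHom ψ)) hψ
    have hq : q ≫ e = p := by
      refine gaFn_injective ?_
      show Red.gaFn _ = Red.gaFn _
      rw [gaFn_comp, gaFn_ptOf]
      apply (fieldFn L a).injective
      have h1 := congrArg (fun χ => (ConcreteCategory.hom χ) Polynomial.X)
        (Scheme.ΓSpecIso_inv_naturality (CommRingCat.ofHom ψ))
      have h2 : q.left.appTop ((Scheme.ΓSpecIso (CommRingCat.of B)).inv Polynomial.X) =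
          (fieldFn L a).symm (ψ Polynomial.X) := h1.symm
      rw [h2, RingEquiv.apply_symm_apply]
      exact Polynomial.eval₂_X _ _
    refine ⟨q.left (IsLocalRing.closedPoint L : PrimeSpectrum L), ?_⟩
    exact (Scheme.Hom.comp_apply q.left e.left _).symm.trans
      ((congrArg (fun f : fieldPt L a ⟶ Red.Ga (Spec (CommRingCat.of K)) => f.left _) hq).trans (hp _))⟩
  haveI : ConnectedSpace P.left := inferInstanceAs (ConnectedSpace (PrimeSpectrum B))
  exact e.left.surjective.connectedSpace e.left.continuous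

/-- The base change of `𝔾_a` is `𝔾_a`. -/
theorem exists_bcGa {P : Scheme.{u}} (g : P ⟶ S) :
    ∃ e : Red.bc g (Red.Ga S) ≅ Red.Ga P, IsMonHom e.hom := by
  let U := Red.bc g (Red.Ga S)
  let pu := (bcEquiv g (Red.Ga S) U).symm (𝟙 U)
  let h : U ⟶ Red.Ga P := ptOf (Red.gaFn (S := S) (X := (Over.map g).obj U) pu)
  have hh : ∀ (Y : Over P) (a : Y ⟶ U),
      Red.gaFn (a ≫ h) = Red.gaFn (X := (Over.map g).obj Y) ((bcEquiv g (Red.Ga S) Y).symm a) := fun Y a => by
    rw [gaFn_comp, gaFn_ptOf]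
    have h1 := (Over.mapPullbackAdj g).homEquiv_naturality_left_symm a (𝟙 U)
    rw [Category.comp_id] at h1
    show _ = Red.gaFn (X := (Over.map g).obj Y) (((Over.mapPullbackAdj g).homEquiv Y (Red.Ga S)).symm a)
    rw [h1, gaFn_comp]
    rfl
  let k : Red.Ga P ⟶ U := bcEquiv g (Red.Ga S) (Red.Ga P)
    (ptOf (S := S) (T := (Over.map g).obj (Red.Ga P)) (Red.gaFn (S := P) (X := Red.Ga P) (𝟙 _)))
  have e1 : k ≫ h = 𝟙 _ := gaFn_injective (by
    show Red.gaFn _ = Red.gaFn _
    rw [hh, Equiv.symm_apply_apply, gaFn_ptOf])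
  have e2 : h ≫ k = 𝟙 _ := by
    apply (bcEquiv g (Red.Ga S) U).symm.injective
    show ((Over.mapPullbackAdj g).homEquiv U (Red.Ga S)).symm _ = _
    rw [(Over.mapPullbackAdj g).homEquiv_naturality_left_symm]
    show (Over.map g).map h ≫ (bcEquiv g (Red.Ga S) (Red.Ga P)).symm k = pu
    refine gaFn_injective ?_
    show Red.gaFn _ = Red.gaFn _
    rw [Equiv.symm_apply_apply, gaFn_comp, gaFn_ptOf]
    exact (gaFn_comp h (𝟙 _)).symm.trans (by rw [Category.comp_id, gaFn_ptOf])
  have hmul : ∀ (Y : Over P) (a b : Y ⟶ U), (a * b) ≫ h = (a ≫ h) * (b ≫ h) := fun Y a b => by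
    refine gaFn_injective ?_
    show Red.gaFn _ = Red.gaFn _
    rw [gaFn_mul, hh, hh, hh, bcEquiv_symm_mul, gaFn_mul]
  haveI : IsMonHom h := Groth.Agent.RedRank.isMonHom_of_mul _ hmul
  let e : U ≅ Red.Ga P := ⟨h, k, e2, e1⟩
  exact ⟨e, ‹_›⟩

theorem smooth_bc_Ga {P : Scheme.{u}} (g : P ⟶ S) : Smooth (Red.bc g (Red.Ga S)).hom :=
  haveI := smooth_Ga S
  inferInstanceAs (Smooth (pullback.snd (Red.Ga S).hom g))

theorem hasNoSubtorus_bc_Ga {K : Type u} [Field K] (g : Spec (CommRingCat.of K) ⟶ S) :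
    Red.HasNoSubtorus K (Red.bc g (Red.Ga S)) := by
  intro H _ j _ _ hH
  obtain ⟨e, he⟩ := exists_bcGa g
  haveI := he
  have hmt : SGA3x.IsMultTypeFT H := by
    obtain ⟨S', p, h1, h2, h3, hloc⟩ := hH
    refine ⟨S', p, h1, h2, h3, fun z => ?_⟩
    obtain ⟨U, hU, r, h⟩ := hloc z
    exact ⟨U, hU, Fin r → ℤ, inferInstance, Module.Finite.iff_addGroup_fg.1 inferInstance, h⟩
  have h1 : j ≫ e.hom = 1 := MultHom.eq_one (j ≫ e.hom) hmt
  have h2 : (toUnit H ≫ η[H]) = 𝟙 H := by
    rw [← cancel_mono (j ≫ e.hom), h1]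
    simp only [MonObj.comp_one, Category.id_comp]
  haveI : IsIso (toUnit H) := ⟨η[H], h2, toUnit_unique _ _⟩
  have h3 : H.hom = (toUnit H).left := ((Over.w (toUnit H)).symm.trans (Category.comp_id _))
  show IsIso H.hom
  rw [h3]
  exact inferInstanceAs (IsIso ((Over.forget _).map (toUnit H)))

variable {G T : Over S} [GrpObj G] [GrpObj T] {i : T ⟶ G} {α : T ⟶ Red.Gm S} {pp pm : Red.Ga S ⟶ G}

theorem Sys.not_commute (st : Sys i α pp pm) (hG : Red.IsReductive G) (hc : ∀ (X : Over S) (a b : X ⟶ T), a * b = b * a)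
    (s : S) :
    ∃ (X : Over (Spec (CommRingCat.of (AlgebraicClosure (S.residueField s)))))
      (x y : X ⟶ Red.bc (Red.geomPt s) (Red.Ga S)),
      (x ≫ (Over.pullback (Red.geomPt s)).map pp) * (y ≫ (Over.pullback (Red.geomPt s)).map pm) ≠
        (y ≫ (Over.pullback (Red.geomPt s)).map pm) * (x ≫ (Over.pullback (Red.geomPt s)).map pp) := by
  by_contra hne
  push Not at hne
  haveI := st.mon_i
  haveI := st.mon_pp
  haveI := st.mon_pm
  haveI := st.mon_α
  let g := Red.geomPt s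
  let E := fun (Y : Over (Spec (CommRingCat.of (AlgebraicClosure (S.residueField s))))) => bcEquiv g G Y
  have hE : ∀ (p : Red.Ga S ⟶ G) (Y : Over (Spec (CommRingCat.of (AlgebraicClosure (S.residueField s)))))
      (c : Γ(Y.left, ⊤)), E Y (rt p (X := (Over.map g).obj Y) c) =
        bcEquiv g (Red.Ga S) Y (ptOf c) ≫ (Over.pullback g).map p := fun p Y c =>
    (Over.mapPullbackAdj g).homEquiv_naturality_right _ _
  have hcomm : ∀ (Y : Over (Spec (CommRingCat.of (AlgebraicClosure (S.residueField s)))))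
      (x y : Γ(((Over.map g).obj Y).left, ⊤)), rt pp x * rt pm y = rt pm y * rt pp x := fun Y x y => by
    apply (E Y).injective
    show bcEquiv g G Y _ = bcEquiv g G Y _
    rw [bcEquiv_mul, bcEquiv_mul]
    show E Y (rt pp x) * E Y (rt pm y) = E Y (rt pm y) * E Y (rt pp x)
    rw [hE, hE]
    exact hne Y _ _
  -- every point over the geometric point lies in the cell
  have hC := conn_of_isReductive hG
  have hcell : ∀ (Y : Over (Spec (CommRingCat.of (AlgebraicClosure (S.residueField s)))))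
      (w : (Over.map g).obj Y ⟶ G), InCell i pp pm w := fun Y w => by
    obtain ⟨X', π, _, _, hs, c, d, ⟨y, t, x, rfl⟩, ⟨y', t', x', rfl⟩, he⟩ := st.exists_div hC w
    refine st.inCell_of_surjective π ?_
    let Y' : Over (Spec (CommRingCat.of (AlgebraicClosure (S.residueField s)))) := Over.mk (π.left ≫ Y.hom)
    let e : X' ≅ (Over.map g).obj Y' := Over.isoMk (Iso.refl _) (by
      show 𝟙 _ ≫ (π.left ≫ Y.hom) ≫ g = X'.hom
      rw [Category.id_comp, Category.assoc]
      exact Over.w π)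
    have hcx : ∀ a b : Γ(X'.left, ⊤), rt pp a * rt pm b = rt pm b * rt pp a := fun a b => by
      rw [← cancel_epi e.inv, MonObj.comp_mul, MonObj.comp_mul, comp_rt, comp_rt]
      exact hcomm Y' _ _
    refine ⟨y - (((av' α (t * t'⁻¹))⁻¹ : (Γ(X'.left, ⊤))ˣ) : Γ(X'.left, ⊤)) * y', t * t'⁻¹,
      (av' α t' : Γ(X'.left, ⊤)) * (x - x'), ?_⟩
    rw [he]
    set A : Γ(X'.left, ⊤) := (av' α t' : Γ(X'.left, ⊤)) * (x - x') with hA
    have hP : rt pp x * (rt pp x')⁻¹ * (t' ≫ i)⁻¹ = (t' ≫ i)⁻¹ * rt pp A := by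
      rw [hA, ← st.conjP, sub_eq_add_neg, rt_add, rt_neg]
      group
    calc rt pm y * (t ≫ i) * rt pp x * (rt pm y' * (t' ≫ i) * rt pp x')⁻¹
        = rt pm y * (t ≫ i) * (rt pp x * (rt pp x')⁻¹ * (t' ≫ i)⁻¹) * (rt pm y')⁻¹ := by group
      _ = rt pm y * ((t * t'⁻¹) ≫ i) * (rt pp A * rt pm (-y')) := by
          rw [hP, MonObj.mul_comp, GrpObj.inv_comp, rt_neg]; group
      _ = rt pm y * (((t * t'⁻¹) ≫ i) * rt pm (-y') * ((t * t'⁻¹) ≫ i)⁻¹) * ((t * t'⁻¹) ≫ i) * rt pp A := by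
          rw [hcx]; group
      _ = _ := by
          rw [st.conjM, ← rt_add, mul_neg, ← sub_eq_add_neg]
  let Gk := Red.bc g G
  let Uk := Red.bc g (Red.Ga S)
  let u : Uk ⟶ Gk := (Over.pullback g).map pp
  let w₀ := (E Gk).symm (𝟙 Gk)
  obtain ⟨y₀, t₀, x₀, hw₀⟩ := hcell Gk w₀
  let r : Gk ⟶ Uk := bcEquiv g (Red.Ga S) Gk (ptOf x₀)
  have hur : u ≫ r = 𝟙 Uk := by
    let n₀ := (bcEquiv g (Red.Ga S) Uk).symm (𝟙 Uk)
    have h1 : (Over.map g).map u ≫ w₀ = rt pp (Red.gaFn n₀) := by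
      rw [← rt_eq pp n₀ rfl]
      apply (E Uk).injective
      show ((Over.mapPullbackAdj g).homEquiv Uk G) _ = ((Over.mapPullbackAdj g).homEquiv Uk G) _
      rw [(Over.mapPullbackAdj g).homEquiv_naturality_left, (Over.mapPullbackAdj g).homEquiv_naturality_right]
      show u ≫ E Gk w₀ = bcEquiv g (Red.Ga S) Uk n₀ ≫ u
      rw [Equiv.apply_symm_apply, Equiv.apply_symm_apply, Category.id_comp]
      exact Category.comp_id u
    have h2 : rt pp (Red.gaFn n₀) = cell i pp pm 0 1 (Red.gaFn n₀) := by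
      simp only [cell, rt_zero, MonObj.one_comp, _root_.one_mul]
    rw [h2, hw₀, comp_cell] at h1
    obtain ⟨-, -, h3⟩ := st.cell_inj h1
    apply (bcEquiv g (Red.Ga S) Uk).symm.injective
    show ((Over.mapPullbackAdj g).homEquiv Uk (Red.Ga S)).symm _ = _
    rw [(Over.mapPullbackAdj g).homEquiv_naturality_left_symm]
    show (Over.map g).map u ≫ (bcEquiv g (Red.Ga S) Gk).symm r = n₀
    rw [Equiv.symm_apply_apply, comp_ptOf, h3]
    exact (eq_ptOf n₀ rfl).symm
  haveI : IsMonHom u := inferInstance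
  haveI : IsAffine Gk.left := (hG.2.2 s).1
  haveI : IsClosedImmersion u.left := by
    haveI : IsClosedImmersion (u.left ≫ r.left) := by
      rw [← Over.comp_left, hur, Over.id_left]; infer_instance
    exact IsClosedImmersion.of_comp u.left r.left
  have hnorm : AlgGrp.IsNormalHom u := fun Y gY n => by
    obtain ⟨y, t, x, hw⟩ := hcell Y ((E Y).symm gY)
    let c := Red.gaFn ((bcEquiv g (Red.Ga S) Y).symm n)
    refine ⟨bcEquiv g (Red.Ga S) Y (ptOf ((av' α t : Γ(((Over.map g).obj Y).left, ⊤)) * c)), ?_⟩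
    have hn : n ≫ u = E Y (rt pp c) := by
      rw [hE, ← eq_ptOf _ rfl, Equiv.apply_symm_apply]
    rw [← hE, hn, ← (E Y).apply_symm_apply gY, hw]
    have key : cell i pp pm y t x * rt pp c =
        rt pp ((av' α t : Γ(((Over.map g).obj Y).left, ⊤)) * c) * cell i pp pm y t x := by
      calc rt pm y * (t ≫ i) * rt pp x * rt pp c
          = rt pm y * (t ≫ i) * rt pp (c + x) := by rw [_root_.mul_assoc (_ * (t ≫ i)), ← rt_add, add_comm]
        _ = rt pm y * ((t ≫ i) * rt pp c * (t ≫ i)⁻¹) * (t ≫ i) * rt pp x := by rw [rt_add]; group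
        _ = _ := by rw [st.conjP, ← hcomm]; simp only [cell, _root_.mul_assoc]
    rw [mul_inv_eq_iff_eq_mul, ← bcEquiv_mul, ← bcEquiv_mul]
    exact congrArg (E Y) key
  obtain ⟨e, -⟩ := exists_bcGa (S := S) g
  haveI : ConnectedSpace Uk.left := by
    haveI := connectedSpace_Ga (AlgebraicClosure (S.residueField s))
    let φ : (Red.Ga (Spec (CommRingCat.of (AlgebraicClosure (S.residueField s))))).left ≃ₜ Uk.left :=
      Scheme.homeoOfIso ((Over.forget _).mapIso e).symm
    exact φ.surjective.connectedSpace φ.continuous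
  have htriv : IsIso Uk.hom :=
    (hG.2.2 s).2.2.2 Uk u inferInstance (smooth_bc_Ga g) inferInstance hnorm (hasNoSubtorus_bc_Ga g)
  let Y₁ : Over (Spec (CommRingCat.of (AlgebraicClosure (S.residueField s)))) := Over.mk (𝟙 _)
  have h01 : bcEquiv g (Red.Ga S) Y₁ (ptOf 0) = bcEquiv g (Red.Ga S) Y₁ (ptOf 1) :=
    Over.OverMorphism.ext ((cancel_mono Uk.hom).1 ((Over.w _).trans (Over.w _).symm))
  have h02 := congrArg Red.gaFn ((bcEquiv g (Red.Ga S) Y₁).injective h01)
  rw [gaFn_ptOf, gaFn_ptOf] at h02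
  haveI : Nontrivial Γ(((Over.map g).obj Y₁).left, ⊤) :=
    (fieldFn (AlgebraicClosure (S.residueField s)) g).toEquiv.nontrivial
  exact zero_ne_one h02

end Groth.Agent.BigCell
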