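import Groth.Agent.BigCellLib.Cell

/-!
# The big cell of a system with a coroot

Weyl elements lie outside the cell, so a product of two cell points lies in it exactly when `1 + x y'` is a unit;
the centraliser of a power of the coroot is the torus; Weyl elements are characterised by two relations.
-/

set_option autoImplicit false
set_option maxHeartbeats 1000000
universe u

open CategoryTheory CategoryTheory.Limits MonoidalCategory CartesianMonoidalCategory AlgebraicGeometry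
open Groth.Agent.GaPts
open scoped MonObj

noncomputable section

namespace Groth.Agent.BigCell

variable {S : Scheme.{u}}

theorem isUnit_of_field {X : Over S} (c : Γ(X.left, ⊤))
    (h : ∀ (K : Type u) [Field K] [IsAlgClosed K] (a : Spec (CommRingCat.of K) ⟶ S) (p : fieldPt K a ⟶ X),
      p.left.appTop c ≠ 0) : IsUnit c := by
  refine RingedSpace.isUnit_of_isUnit_germ (X := X.left.toRingedSpace) ⊤ _ fun x _ => ?_
  refine (X.left.mem_basicOpen (U := ⊤) c x trivial).1 ?_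
  obtain ⟨K, _, _, a, p, hp⟩ := exists_geomPt X x
  let z : (fieldPt K a).left := (IsLocalRing.closedPoint K : PrimeSpectrum K)
  have hz : z ∈ p.left ⁻¹ᵁ X.left.basicOpen c := by
    rw [Scheme.preimage_basicOpen_top, Scheme.basicOpen_of_isUnit _ (isUnit_of_ne_zero (h K a p))]
    trivial
  exact hp z ▸ hz

/-- A system with an open cell and a coroot. -/
structure Sys1 {G T : Over S} [GrpObj G] [GrpObj T] (i : T ⟶ G) (α : T ⟶ Red.Gm S) (pp pm : Red.Ga S ⟶ G)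
    (av : Red.Gm S ⟶ T) : Prop where
  sys : Sys i α pp pm
  mon_av : IsMonHom av
  h2 : av ≫ α = (𝟙 (Red.Gm S)) ^ 2
  hF : ∀ (X : Over S) (x y : X ⟶ Red.Ga S), IsUnit (1 + Red.gaFn x * Red.gaFn y) →
      ∃ (x' y' : X ⟶ Red.Ga S) (z : X ⟶ Red.Gm S), Red.gmFn z = 1 + Red.gaFn x * Red.gaFn y ∧
        Red.gaFn x' * Red.gmFn z = Red.gaFn x ∧ Red.gaFn y' * Red.gmFn z = Red.gaFn y ∧
        (x ≫ pp) * (y ≫ pm) = (y' ≫ pm) * (z ≫ av ≫ i) * (x' ≫ pp)

variable {G T : Over S} [GrpObj G] [GrpObj T] {i : T ⟶ G} {α : T ⟶ Red.Gm S} {pp pm : Red.Ga S ⟶ G}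
    {av : Red.Gm S ⟶ T}

theorem Sys1.setup (st : Sys1 i α pp pm av) : RankOne.Setup i α pp pm av :=
  ⟨st.sys.mon_i, st.sys.mon_α, st.sys.mon_pp, st.sys.mon_pm, st.mon_av, st.sys.hpp, st.sys.hpm, st.h2, st.hF⟩

/-- The calculus on `X`-points. -/
abbrev Sys1.D (st : Sys1 i α pp pm av) (X : Over S) : RankOne.Data Γ(X.left, ⊤) (X ⟶ G) (X ⟶ T) :=
  st.setup.data X

theorem Sys1.comp_c (st : Sys1 i α pp pm av) {X X' : Over S} (g : X' ⟶ X) (z : (Γ(X.left, ⊤))ˣ) :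
    g ≫ (st.D X).c z = (st.D X').c (Units.map g.left.appTop.hom.toMonoidHom z) := by
  show g ≫ GmPts.ptOfUnit z ≫ av = GmPts.ptOfUnit _ ≫ av
  rw [← Category.assoc, GmPts.ptOfUnit_comp]

theorem Sys1.comp_h (st : Sys1 i α pp pm av) {X X' : Over S} (g : X' ⟶ X) (z : (Γ(X.left, ⊤))ˣ) :
    g ≫ (st.D X).h z = (st.D X').h (Units.map g.left.appTop.hom.toMonoidHom z) := by
  show g ≫ (st.D X).c z ≫ i = (st.D X').c _ ≫ i
  rw [← Category.assoc, st.comp_c]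

theorem Sys1.comp_w (st : Sys1 i α pp pm av) {X X' : Over S} (g : X' ⟶ X) (z : (Γ(X.left, ⊤))ˣ) :
    g ≫ (st.D X).w z = (st.D X').w (Units.map g.left.appTop.hom.toMonoidHom z) := by
  show g ≫ (rt pp _ * rt pm _ * rt pp _) = rt pp _ * rt pm _ * rt pp _
  simp only [MonObj.comp_mul, comp_rt, map_neg]
  rfl

theorem Sys1.h_zpow (st : Sys1 i α pp pm av) {X : Over S} (z : X ⟶ Red.Gm S) (n : ℤ) :
    ((z ≫ av) ^ n) ≫ i = (st.D X).h ((GmPts.unitOfPt z) ^ n) := by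
  show _ = (st.D X).c (GmPts.unitOfPt z ^ n) ≫ i
  rw [map_zpow]
  congr 2
  show z ≫ av = GmPts.ptOfUnit _ ≫ av
  rw [GmPts.ptOfUnit_unitOfPt]

theorem Sys1.unit_sq_of_c_eq_one (st : Sys1 i α pp pm av) {X : Over S} {z : (Γ(X.left, ⊤))ˣ}
    (h : (st.D X).c z = 1) : z ^ 2 = 1 := by
  rw [← (st.D X).a_c, h, map_one]

theorem exists_unit_pow_ne_one {K : Type u} [Field K] [IsAlgClosed K] (a : Spec (CommRingCat.of K) ⟶ S) {n : ℕ}
    (hn : n ≠ 0) : ∃ z : (Γ((fieldPt K a).left, ⊤))ˣ, z ^ n ≠ 1 := by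
  classical
  obtain ⟨r, hr⟩ := Infinite.exists_notMem_finset ((Polynomial.nthRootsFinset n (1 : K)) ∪ {0})
  simp only [Finset.mem_union, Finset.mem_singleton, Polynomial.mem_nthRootsFinset (Nat.pos_of_ne_zero hn),
    not_or] at hr
  let e := fieldFn K a
  refine ⟨Units.map e.symm.toMonoidHom (Units.mk0 r hr.2), fun h => hr.1 ?_⟩
  have h1 := congrArg (fun v : (Γ((fieldPt K a).left, ⊤))ˣ => e (v : Γ((fieldPt K a).left, ⊤))) h
  simpa using h1

theorem mul_cell_left (st : Sys i α pp pm) {X : Over S} (d : Γ(X.left, ⊤)) (s : X ⟶ T) {g : X ⟶ G}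
    (h : InCell i pp pm g) : InCell i pp pm (rt pm d * (s ≫ i) * g) := by
  haveI := st.mon_i
  haveI := st.mon_pm
  obtain ⟨y, t, x, rfl⟩ := h
  refine ⟨d + (((av' α s)⁻¹ : (Γ(X.left, ⊤))ˣ) : Γ(X.left, ⊤)) * y, s * t, x, ?_⟩
  simp only [cell, rt_add, ← st.conjM, MonObj.mul_comp]
  group

theorem mul_cell_right (st : Sys i α pp pm) {X : Over S} (s : X ⟶ T) (d : Γ(X.left, ⊤)) {g : X ⟶ G}
    (h : InCell i pp pm g) : InCell i pp pm (g * ((s ≫ i) * rt pp d)) := by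
  haveI := st.mon_i
  haveI := st.mon_pp
  haveI := st.mon_α
  obtain ⟨y, t, x, rfl⟩ := h
  refine ⟨y, t * s, (av' α s⁻¹ : Γ(X.left, ⊤)) * x + d, ?_⟩
  simp only [cell, rt_add, ← st.conjP, MonObj.mul_comp, GrpObj.inv_comp]
  group

/-- Weyl elements are outside the cell. -/
theorem Sys1.w_not_inCell (st : Sys1 i α pp pm av) (hc : ∀ (X : Over S) (a b : X ⟶ T), a * b = b * a)
    {K : Type u} [Field K] [IsAlgClosed K] (a : Spec (CommRingCat.of K) ⟶ S) (u : (Γ((fieldPt K a).left, ⊤))ˣ) :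
    ¬ InCell i pp pm ((st.D (fieldPt K a)).w u) := by
  rintro ⟨y, t, x, hw⟩
  obtain ⟨z, hz⟩ := exists_unit_pow_ne_one a (n := 4) (by norm_num)
  let d := st.D (fieldPt K a)
  have h1 : d.h z * d.w u * (d.h z)⁻¹ = d.h (z ^ 2) * d.w u := by
    rw [_root_.mul_assoc, d.w_h, ← _root_.mul_assoc, map_pow, pow_two]
  have h2 := st.sys.cell_conj hc (d.c z) y t x
  have h3 : d.h (z ^ 2) * d.w u = cell i pp pm
      ((((av' α (d.c (z ^ 2)))⁻¹ : (Γ((fieldPt K a).left, ⊤))ˣ) : Γ((fieldPt K a).left, ⊤)) * y) (d.c (z ^ 2) * t) x := by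
    haveI := st.sys.mon_i
    rw [hw]
    show (d.c (z ^ 2) ≫ i) * _ = _
    simp only [cell, ← st.sys.conjM, MonObj.mul_comp]
    group
  rw [h3, hw] at h1
  obtain ⟨-, ht, -⟩ := st.sys.cell_inj (h2.symm.trans h1)
  refine hz ?_
  have h4 := st.unit_sq_of_c_eq_one (right_eq_mul.1 ht)
  rwa [← pow_mul] at h4

/-- A product of two points of the cell lies in the cell only if `1 + x y'` is a unit. -/
theorem Sys1.isUnit_of_inCell_mul (st : Sys1 i α pp pm av) (hc : ∀ (X : Over S) (a b : X ⟶ T), a * b = b * a)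
    {X : Over S} {y x y' x' : Γ(X.left, ⊤)} {t t' : X ⟶ T}
    (h : InCell i pp pm (cell i pp pm y t x * cell i pp pm y' t' x')) : IsUnit (1 + x * y') := by
  haveI := st.sys.mon_i
  haveI := st.sys.mon_pp
  haveI := st.sys.mon_pm
  haveI := st.sys.mon_α
  refine isUnit_of_field _ fun K _ _ a p h0 => ?_
  let X₀ := fieldPt K a
  let f : Γ(X.left, ⊤) →+* Γ(X₀.left, ⊤) := p.left.appTop.hom
  have h1 := h.comp p
  rw [MonObj.comp_mul, comp_cell, comp_cell] at h1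
  change InCell i pp pm (cell i pp pm (f y) (p ≫ t) (f x) * cell i pp pm (f y') (p ≫ t') (f x')) at h1
  have h0' : 1 + f x * f y' = 0 := by rw [← map_mul, ← map_one f, ← map_add]; exact h0
  have hx : IsUnit (f x) := isUnit_of_ne_zero fun hx => by
    rw [hx, zero_mul, add_zero] at h0'
    haveI : Nontrivial Γ(X₀.left, ⊤) := (fieldFn K a).toEquiv.nontrivial
    exact one_ne_zero h0'
  obtain ⟨v, hv⟩ := hx
  refine st.w_not_inCell hc a v ?_
  have hy : f y' = -((v⁻¹ : (Γ(X₀.left, ⊤))ˣ) : Γ(X₀.left, ⊤)) := by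
    refine RankOne.Data.w_mk v _ ?_
    rw [hv]; linear_combination h0'
  -- `w(v) = M(-y)·t⁻¹·(product)·t'⁻¹·P(stuff)`
  have h2 := mul_cell_right st.sys (p ≫ t')⁻¹
    ((av' α (p ≫ t') : Γ(X₀.left, ⊤)) * (-f x') + (v : Γ(X₀.left, ⊤))) (mul_cell_left st.sys 0 (p ≫ t)⁻¹
    (mul_cell_left st.sys (-f y) 1 h1))
  convert h2 using 1
  show rt pp _ * rt pm _ * rt pp _ = _
  rw [← hy, hv, rt_zero]
  simp only [cell, rt_neg, rt_add, ← st.sys.conjP, MonObj.mul_comp, MonObj.one_comp, GrpObj.inv_comp]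
  group

/-- The product of two points of the cell. -/
theorem Sys1.cell_mul (st : Sys1 i α pp pm av) {X : Over S} (y x y' x' : Γ(X.left, ⊤)) (t t' : X ⟶ T)
    (z : (Γ(X.left, ⊤))ˣ) (hz : (z : Γ(X.left, ⊤)) = 1 + x * y') :
    cell i pp pm y t x * cell i pp pm y' t' x' =
      cell i pp pm (y + y' * (((av' α t * z)⁻¹ : (Γ(X.left, ⊤))ˣ) : Γ(X.left, ⊤))) (t * (st.D X).c z * t')
        (x' + x * (((av' α t' * z)⁻¹ : (Γ(X.left, ⊤))ˣ) : Γ(X.left, ⊤))) := by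
  refine (st.D X).cell_mul_cell x y x' y' _ _ t t' z hz ?_ ?_
  · show (_ - y) * (z : Γ(X.left, ⊤)) * (av' α t : Γ(X.left, ⊤)) = y'
    rw [add_sub_cancel_left, mul_assoc, mul_assoc, ← Units.val_mul, ← Units.val_mul, mul_comm z, inv_mul_cancel,
      Units.val_one, mul_one]
  · show (_ - x') * (z : Γ(X.left, ⊤)) * (av' α t' : Γ(X.left, ⊤)) = x
    rw [add_sub_cancel_left, mul_assoc, mul_assoc, ← Units.val_mul, ← Units.val_mul, mul_comm z, inv_mul_cancel,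
      Units.val_one, mul_one]

/-- A transcendental unit satisfies no linear relation between its powers and constants. -/
theorem eq_zero_of_relation {K : Type u} [Field K] {a : Spec (CommRingCat.of K) ⟶ S} {L : Type u} [Field L]
    {b : Spec (CommRingCat.of L) ⟶ S} (π : fieldPt L b ⟶ fieldPt K a) {Z : (Γ((fieldPt L b).left, ⊤))ˣ}
    (hZ : ∀ f : Polynomial Γ((fieldPt K a).left, ⊤), f ≠ 0 →
      (f.map π.left.appTop.hom).eval (Z : Γ((fieldPt L b).left, ⊤)) ≠ 0)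
    {m : ℤ} (hm : m ≠ 0) (c d : Γ((fieldPt K a).left, ⊤))
    (h : π.left.appTop c * ((Z ^ m : (Γ((fieldPt L b).left, ⊤))ˣ) : Γ((fieldPt L b).left, ⊤)) + π.left.appTop d = 0) :
    c = 0 ∧ d = 0 := by
  have key : ∀ (k : ℕ) (c d : Γ((fieldPt K a).left, ⊤)), k ≠ 0 →
      π.left.appTop c * (Z : Γ((fieldPt L b).left, ⊤)) ^ k + π.left.appTop d = 0 → c = 0 ∧ d = 0 := by
    intro k c d hk hcd
    by_contra hne
    refine hZ (Polynomial.C c * Polynomial.X ^ k + Polynomial.C d) (fun hf => hne ?_) ?_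
    · have h1 := congrArg (Polynomial.coeff · k) hf
      have h2 := congrArg (Polynomial.coeff · 0) hf
      simp [Ne.symm hk, hk, Polynomial.coeff_C] at h1 h2
      exact ⟨h1, h2⟩
    · simpa using hcd
  obtain ⟨k, rfl | rfl⟩ := m.eq_nat_or_neg
  · rw [zpow_natCast, Units.val_pow_eq_pow_val] at h
    exact key k c d (by simpa using hm) h
  · rw [zpow_neg, zpow_natCast] at h
    refine (key k d c (by simpa using hm) ?_).symm
    have h' := congrArg (· * ((Z ^ k : (Γ((fieldPt L b).left, ⊤))ˣ) : Γ((fieldPt L b).left, ⊤))) h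
    rw [add_mul, zero_mul, mul_assoc, Units.inv_mul, mul_one, Units.val_pow_eq_pow_val] at h'
    rw [add_comm]
    exact h'

/-- The centraliser of a non-trivial power of the coroot is the torus. -/
theorem Sys1.exists_of_commute (st : Sys1 i α pp pm av) (hG : Conn G) (hT : Red.IsTorus T)
    (hα : ∀ s : S, (Over.pullback (Red.geomPt s)).map α ≠ 1) (n : ℤ) (hn : n ≠ 0) {X : Over S} (g : X ⟶ G)
    (h : ∀ (X' : Over S) (π : X' ⟶ X) (z : (Γ(X'.left, ⊤))ˣ),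
      (π ≫ g) * (st.D X').h (z ^ n) = (st.D X').h (z ^ n) * (π ≫ g)) :
    ∃ t : X ⟶ T, t ≫ i = g := by
  haveI := st.sys.mon_i
  haveI := st.sys.mon_pp
  haveI := st.sys.mon_pm
  haveI := st.sys.mon_α
  have hc := fun (Y : Over S) (a b : Y ⟶ T) => torus_comm hT a b
  have hcell : InCell i pp pm g := st.sys.inCell_of_field fun K _ _ a p => by
    obtain ⟨X', π, _, _, hs, c, d, ⟨y, t, x, rfl⟩, ⟨y', t', x', rfl⟩, he⟩ := st.sys.exists_div hG (p ≫ g)
    refine st.sys.inCell_of_surjective π (st.sys.inCell_of_field fun K₁ _ _ a₁ q => ?_)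
    obtain ⟨L, _, _, b, r, τ, hτ⟩ := exists_transcendental hT α hα a₁
    let Z : (Γ((fieldPt L b).left, ⊤))ˣ := av' α τ
    let f : Γ(X'.left, ⊤) →+* Γ((fieldPt K₁ a₁).left, ⊤) := q.left.appTop.hom
    let ρ : Γ((fieldPt K₁ a₁).left, ⊤) →+* Γ((fieldPt L b).left, ⊤) := r.left.appTop.hom
    let y₁ := f y
    let t₁ := (q ≫ t) * (q ≫ t')⁻¹
    let x₁ := (av' α (q ≫ t') : Γ((fieldPt K₁ a₁).left, ⊤)) * (f x - f x')
    let y₃ := -f y'
    have hg : q ≫ π ≫ p ≫ g = cell i pp pm y₁ t₁ x₁ * rt pm y₃ := by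
      rw [he, MonObj.comp_mul, GrpObj.comp_inv, comp_cell, comp_cell]
      simp only [cell, t₁, x₁, y₁, y₃, f, ← st.sys.conjP, rt_neg, sub_eq_add_neg, rt_add, MonObj.mul_comp, GrpObj.inv_comp]
      group
    suffices hsuff : x₁ = 0 ∧ y₁ + y₃ * (((av' α t₁)⁻¹ : (Γ((fieldPt K₁ a₁).left, ⊤))ˣ) : _) = 0 by
      refine ⟨0, t₁, 0, ?_⟩
      rw [hg, hsuff.1]
      simp only [cell, rt_zero, _root_.mul_one, _root_.one_mul]
      rw [eq_neg_of_add_eq_zero_left hsuff.2, mul_comm, rt_neg, ← st.sys.conjM]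
      group
    -- conjugation by `h(Z ^ n)` on the larger field
    let D := st.D (fieldPt L b)
    have hcomm := h (fieldPt L b) ((r ≫ q ≫ π) ≫ p) Z
    have hg' : ((r ≫ q ≫ π) ≫ p) ≫ g = cell i pp pm (ρ y₁) (r ≫ t₁) (ρ x₁) * rt pm (ρ y₃) := by
      simp only [Category.assoc]
      rw [hg, MonObj.comp_mul, comp_cell, comp_rt]
    rw [hg'] at hcomm
    set u := Z ^ n
    set mm : (Γ((fieldPt L b).left, ⊤))ˣ := (u ^ 2)⁻¹ with hmm
    have ha : av' α (D.c u) = u ^ 2 := D.a_c u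
    have hconj : cell i pp pm ((mm : Γ((fieldPt L b).left, ⊤)) * ρ y₁) (r ≫ t₁)
        (((u ^ 2 : (Γ((fieldPt L b).left, ⊤))ˣ) : Γ((fieldPt L b).left, ⊤)) * ρ x₁) =
        cell i pp pm (ρ y₁) (r ≫ t₁) (ρ x₁) *
          cell i pp pm (ρ y₃ - (mm : Γ((fieldPt L b).left, ⊤)) * ρ y₃) 1 0 := by
      have h1 := st.sys.cell_conj hc (D.c u) (ρ y₁) (r ≫ t₁) (ρ x₁)
      rw [ha] at h1
      rw [← h1]
      have h2 := st.sys.conjM (D.c u) (ρ y₃)
      rw [ha] at h2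
      simp only [cell, rt_zero, MonObj.one_comp, _root_.mul_one, sub_eq_add_neg, rt_add, rt_neg, mm, ← h2]
      have h3 : (D.c u ≫ i) * (cell i pp pm (ρ y₁) (r ≫ t₁) (ρ x₁) * rt pm (ρ y₃)) * (D.c u ≫ i)⁻¹ =
          cell i pp pm (ρ y₁) (r ≫ t₁) (ρ x₁) * rt pm (ρ y₃) := by
        rw [mul_inv_eq_iff_eq_mul]; exact hcomm.symm
      calc (D.c u ≫ i) * (rt pm (ρ y₁) * ((r ≫ t₁) ≫ i) * rt pp (ρ x₁)) * (D.c u ≫ i)⁻¹
          = ((D.c u ≫ i) * (cell i pp pm (ρ y₁) (r ≫ t₁) (ρ x₁) * rt pm (ρ y₃)) * (D.c u ≫ i)⁻¹) *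
              ((D.c u ≫ i) * rt pm (ρ y₃) * (D.c u ≫ i)⁻¹)⁻¹ := by simp only [cell]; group
        _ = _ := by rw [h3]; simp only [cell]; group
    haveI : Nontrivial Γ((fieldPt L b).left, ⊤) := (fieldFn L b).toEquiv.nontrivial
    have hmmZ : mm = Z ^ (-(2 * n)) := by
      rw [hmm, ← inv_pow, ← zpow_natCast, ← zpow_neg_one, ← zpow_mul, ← zpow_mul]
      congr 1; push_cast; ring
    have hm : -(2 * n) ≠ 0 := by simpa using hn
    have hz : IsUnit (1 + ρ x₁ * (ρ y₃ - (mm : Γ((fieldPt L b).left, ⊤)) * ρ y₃)) := by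
      refine isUnit_of_ne_zero fun h0 => ?_
      obtain ⟨e1, e2⟩ := eq_zero_of_relation r hτ (Z := Z) hm (-(x₁ * y₃)) (1 + x₁ * y₃) (by
        rw [← hmmZ]
        show ρ (-(x₁ * y₃)) * (mm : Γ((fieldPt L b).left, ⊤)) + ρ (1 + x₁ * y₃) = 0
        simp only [map_neg, map_mul, map_add, map_one]
        linear_combination h0)
      haveI : Nontrivial Γ((fieldPt K₁ a₁).left, ⊤) := (fieldFn K₁ a₁).toEquiv.nontrivial
      exact one_ne_zero (α := Γ((fieldPt K₁ a₁).left, ⊤)) (by linear_combination e2 + e1)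
    rw [st.cell_mul _ _ _ _ _ _ hz.unit hz.unit_spec, _root_.mul_one] at hconj
    obtain ⟨e1, e2, e3⟩ := st.sys.cell_inj hconj
    have hu2 : hz.unit ^ 2 = 1 := st.unit_sq_of_c_eq_one (left_eq_mul.1 e2)
    rw [show av' α (1 : fieldPt L b ⟶ T) = 1 by rw [av', MonObj.one_comp, GmPts.unitOfPt_one], _root_.one_mul,
      zero_add] at e3
    have hx0 : x₁ = 0 := by
      by_contra hx0
      have hx : ρ x₁ ≠ 0 := (map_ne_zero_iff _ (fun c d hcd => sub_eq_zero.1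
        (eq_zero_of_relation r hτ (Z := Z) hm 0 (c - d) (by
          show ρ 0 * _ + ρ (c - d) = 0
          rw [map_zero, zero_mul, zero_add, map_sub, hcd, sub_self])).2)).2 hx0
      have h4 : (u ^ 2 : (Γ((fieldPt L b).left, ⊤))ˣ) = hz.unit⁻¹ := Units.ext (by
        refine (isUnit_of_ne_zero hx).mul_left_injective ?_
        show _ * ρ x₁ = _ * ρ x₁
        rw [e3, mul_comm])
      have h5 : mm ^ 2 = 1 := by rw [hmm, h4, inv_inv, hu2]
      rw [hmmZ, ← zpow_natCast, ← zpow_mul] at h5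
      obtain ⟨-, e⟩ := eq_zero_of_relation r hτ (Z := Z) (m := -(2 * n) * (2 : ℕ)) (mul_ne_zero hm (by norm_num))
        1 (-1) (by rw [map_neg, map_one, h5, Units.val_one, mul_one, add_neg_cancel])
      haveI : Nontrivial Γ((fieldPt K₁ a₁).left, ⊤) := (fieldFn K₁ a₁).toEquiv.nontrivial
      exact neg_ne_zero.2 one_ne_zero e
    have hz1 : hz.unit = 1 := Units.ext (by rw [hz.unit_spec, hx0, map_zero, zero_mul, add_zero, Units.val_one])
    rw [hz1, _root_.mul_one] at e1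
    refine ⟨hx0, ?_⟩
    have h6 : ρ (y₁ + y₃ * (((av' α t₁)⁻¹ : (Γ((fieldPt K₁ a₁).left, ⊤))ˣ) : _)) * (mm : Γ((fieldPt L b).left, ⊤)) +
        ρ (-(y₁ + y₃ * (((av' α t₁)⁻¹ : (Γ((fieldPt K₁ a₁).left, ⊤))ˣ) : _))) = 0 := by
      have hr : ρ (((av' α t₁)⁻¹ : (Γ((fieldPt K₁ a₁).left, ⊤))ˣ) : _) =
          (((av' α (r ≫ t₁))⁻¹ : (Γ((fieldPt L b).left, ⊤))ˣ) : _) := by
        rw [av', av', Category.assoc, GmPts.unitOfPt_comp]
        rfl
      simp only [map_neg, map_add, map_mul, hr]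
      linear_combination e1
    rw [hmmZ] at h6
    exact (eq_zero_of_relation r hτ (Z := Z) hm _ _ h6).1
  obtain ⟨y, t, x, rfl⟩ := hcell
  have hz : ∀ (X' : Over S) (π : X' ⟶ X) (z : (Γ(X'.left, ⊤))ˣ),
      ((((z ^ n) ^ 2)⁻¹ : (Γ(X'.left, ⊤))ˣ) : Γ(X'.left, ⊤)) * π.left.appTop y = π.left.appTop y ∧
        (((z ^ n) ^ 2 : (Γ(X'.left, ⊤))ˣ) : Γ(X'.left, ⊤)) * π.left.appTop x = π.left.appTop x := fun X' π z => by
    have h1 := h X' π z
    rw [comp_cell] at h1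
    have h2 := st.sys.cell_conj hc ((st.D X').c (z ^ n)) (π.left.appTop y) (π ≫ t) (π.left.appTop x)
    rw [show av' α ((st.D X').c (z ^ n)) = (z ^ n) ^ 2 from (st.D X').a_c _] at h2
    change (st.D X').h (z ^ n) * _ * ((st.D X').h (z ^ n))⁻¹ = _ at h2
    rw [← h1, mul_inv_cancel_right] at h2
    obtain ⟨e1, -, e3⟩ := st.sys.cell_inj h2
    exact ⟨e1.symm, e3.symm⟩
  have key : ∀ c : Γ(X.left, ⊤), (∀ (X' : Over S) (π : X' ⟶ X) (z : (Γ(X'.left, ⊤))ˣ),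
      (((z ^ n) ^ 2 : (Γ(X'.left, ⊤))ˣ) : Γ(X'.left, ⊤)) * π.left.appTop c = π.left.appTop c) → c = 0 := by
    intro c hc'
    refine eq_zero_of_pow c (k := n.natAbs * 2) (by simpa using hn) fun X' π z => ?_
    rw [← Units.val_pow_eq_pow_val, pow_mul]
    obtain hs | hs := n.natAbs_eq
    · have := hc' X' π z
      rwa [hs, zpow_natCast] at this
    · have := hc' X' π z⁻¹
      rwa [hs, zpow_neg, zpow_natCast, inv_pow z, inv_inv] at this
  have hx : x = 0 := key x fun X' π z => (hz X' π z).2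
  have hy : y = 0 := key y fun X' π z => by
    have := (hz X' π z).1
    rw [Units.inv_mul_eq_iff_eq_mul] at this
    exact this.symm
  exact ⟨t, by simp only [hx, hy, cell, rt_zero, _root_.one_mul, _root_.mul_one]⟩

theorem Sys1.exists_torus_part (st : Sys1 i α pp pm av) (hG : Conn G) (hT : Red.IsTorus T)
    (hα : ∀ s : S, (Over.pullback (Red.geomPt s)).map α ≠ 1) (n : ℤ) (hn : n ≠ 0) {X : Over S} (w : X ⟶ G)
    (v : (Γ(X.left, ⊤))ˣ)
    (hw : ∀ (X' : Over S) (π : X' ⟶ X) (z : (Γ(X'.left, ⊤))ˣ),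
      (π ≫ w) * (st.D X').h (z ^ n) * (π ≫ w)⁻¹ = ((st.D X').h (z ^ n))⁻¹) :
    ∃ t : X ⟶ T, w = (st.D X).w v * (t ≫ i) := by
  obtain ⟨t, ht⟩ := st.exists_of_commute hG hT hα n hn (((st.D X).w v)⁻¹ * w) fun X' π z => by
    rw [MonObj.comp_mul, GrpObj.comp_inv, st.comp_w]
    have h1 : (π ≫ w) * (st.D X').h (z ^ n) = ((st.D X').h (z ^ n))⁻¹ * (π ≫ w) :=
      mul_inv_eq_iff_eq_mul.1 (hw X' π z)
    have h2 := (st.D X').w_h (z ^ n) (Units.map π.left.appTop.hom.toMonoidHom v)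
    have h3 : ((st.D X').w (Units.map π.left.appTop.hom.toMonoidHom v))⁻¹ * ((st.D X').h (z ^ n))⁻¹ =
        (st.D X').h (z ^ n) * ((st.D X').w (Units.map π.left.appTop.hom.toMonoidHom v))⁻¹ := by
      have h4 := congrArg Inv.inv (congrArg (fun e => ((st.D X').w (Units.map π.left.appTop.hom.toMonoidHom v))⁻¹ * e) h2)
      simp only [inv_mul_cancel_left, mul_inv_rev, inv_inv] at h4
      conv_rhs => rw [h4]
      simp only [_root_.mul_assoc, mul_inv_cancel, _root_.mul_one]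
    rw [_root_.mul_assoc, h1, ← _root_.mul_assoc, h3, _root_.mul_assoc]
  exact ⟨t, by rw [ht, mul_inv_cancel_left]⟩

/-- A Weyl element is determined by the way it conjugates a power of the coroot and one root element. -/
theorem Sys1.eq_w (st : Sys1 i α pp pm av) (hG : Conn G) (hT : Red.IsTorus T)
    (hα : ∀ s : S, (Over.pullback (Red.geomPt s)).map α ≠ 1) (n : ℤ) (hn : n ≠ 0) {X : Over S} (w : X ⟶ G)
    (v : (Γ(X.left, ⊤))ˣ)
    (hw : ∀ (X' : Over S) (π : X' ⟶ X) (z : (Γ(X'.left, ⊤))ˣ),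
      (π ≫ w) * (st.D X').h (z ^ n) * (π ≫ w)⁻¹ = ((st.D X').h (z ^ n))⁻¹)
    (hconj : w * rt pp (v : Γ(X.left, ⊤)) * w⁻¹ = rt pp (-(v : Γ(X.left, ⊤))) * w * rt pp (-(v : Γ(X.left, ⊤)))) :
    w = (st.D X).w v := by
  haveI := st.sys.mon_i
  haveI := st.sys.mon_pp
  haveI := st.sys.mon_pm
  haveI := st.sys.mon_α
  obtain ⟨t, ht⟩ := st.exists_torus_part hG hT hα n hn w v hw
  let D := st.D X
  let a : (Γ(X.left, ⊤))ˣ := av' α t
  have hw' : w = D.w v * (t ≫ i) := ht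
  -- conjugation of a root element with a unit argument by `w(v)`
  have hW : ∀ s : (Γ(X.left, ⊤))ˣ, D.w v * rt pp (s : Γ(X.left, ⊤)) * (D.w v)⁻¹ =
      rt pm (-((s : Γ(X.left, ⊤)) * ((v⁻¹ : (Γ(X.left, ⊤))ˣ) : Γ(X.left, ⊤)) ^ 2)) := fun s => by
    have h1 := st.setup.w_P X s
    rw [show D.w s = D.h (s / v) * D.w v by rw [← D.w_scale, div_mul_cancel]] at h1
    calc D.w v * rt pp (s : Γ(X.left, ⊤)) * (D.w v)⁻¹
        = (D.h (s / v))⁻¹ * (D.h (s / v) * D.w v * D.P s * (D.h (s / v) * D.w v)⁻¹) * D.h (s / v) := by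
          show D.w v * D.P _ * _ = _
          group
      _ = (D.h (s / v))⁻¹ * D.M (-((s⁻¹ : (Γ(X.left, ⊤))ˣ) : Γ(X.left, ⊤))) * D.h (s / v) := by rw [h1]
      _ = D.M (-((s : Γ(X.left, ⊤)) * ((v⁻¹ : (Γ(X.left, ⊤))ˣ) : Γ(X.left, ⊤)) ^ 2)) := by
          rw [← map_inv, D.h_M, inv_inv, _root_.mul_assoc, ← map_mul, inv_mul_cancel, map_one, _root_.mul_one]
          congr 1
          rw [div_eq_mul_inv, Units.val_mul]
          linear_combination (-(s : Γ(X.left, ⊤)) * ((v⁻¹ : (Γ(X.left, ⊤))ˣ) : Γ(X.left, ⊤)) ^ 2) * Units.mul_inv s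
  have hL : w * rt pp (v : Γ(X.left, ⊤)) * w⁻¹ =
      cell i pp pm (-(((a * v : (Γ(X.left, ⊤))ˣ)) : Γ(X.left, ⊤)) * ((v⁻¹ : (Γ(X.left, ⊤))ˣ) : Γ(X.left, ⊤)) ^ 2) 1 0 := by
    simp only [cell, rt_zero, MonObj.one_comp, _root_.mul_one]
    rw [neg_mul, ← hW (a * v), Units.val_mul, ← st.sys.conjP, hw']
    group
  have hR : rt pp (-(v : Γ(X.left, ⊤))) * w * rt pp (-(v : Γ(X.left, ⊤))) =
      cell i pp pm (-((v⁻¹ : (Γ(X.left, ⊤))ˣ) : Γ(X.left, ⊤))) t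
        (((av' α t⁻¹ : (Γ(X.left, ⊤))ˣ) : Γ(X.left, ⊤)) * (v : Γ(X.left, ⊤)) + -(v : Γ(X.left, ⊤))) := by
    rw [hw']
    show rt pp _ * (rt pp _ * rt pm _ * rt pp _ * (t ≫ i)) * rt pp _ = _
    simp only [cell, rt_add, rt_neg, ← st.sys.conjP, GrpObj.inv_comp]
    group
  rw [hL, hR] at hconj
  obtain ⟨-, ht1, -⟩ := st.sys.cell_inj hconj
  rw [hw', ← ht1, MonObj.one_comp, _root_.mul_one]
/-- An element inverting a non-trivial power of the coroot is a Weyl element up to the torus. -/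
theorem Sys1.exists_w_mul (st : Sys1 i α pp pm av) (hG : Conn G) (hT : Red.IsTorus T)
    (hα : ∀ s : S, (Over.pullback (Red.geomPt s)).map α ≠ 1) (n : ℤ) (hn : n ≠ 0) {X : Over S} (w : X ⟶ G)
    (hw : ∀ (X' : Over S) (π : X' ⟶ X) (z : (Γ(X'.left, ⊤))ˣ),
      (π ≫ w) * (st.D X').h (z ^ n) * (π ≫ w)⁻¹ = ((st.D X').h (z ^ n))⁻¹) :
    ∃ t : X ⟶ T, w = (st.D X).w 1 * (t ≫ i) :=
  st.exists_torus_part hG hT hα n hn w 1 hw

end Groth.Agent.BigCell
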