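import Groth.Agent.BigCellLib.Coroot

/-!
# Homomorphisms out of a group with a big cell

A map prescribed on the torus and the two root groups, compatible with the rank-one relations, extends uniquely
to a homomorphism: it is multiplicative on the cell, and every point is locally a quotient of two cell points.
-/

set_option autoImplicit false
set_option maxHeartbeats 1000000
universe u

open CategoryTheory CategoryTheory.Limits MonoidalCategory CartesianMonoidalCategory AlgebraicGeometry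
open Groth.Agent.GaPts
open Groth.Agent.RankOne (eq_ptOf)
open scoped MonObj

noncomputable section

namespace Groth.Agent.BigCell

variable {S : Scheme.{u}}

theorem isMonHom_of_mul' {X Y : Over S} [GrpObj X] [GrpObj Y] (f : X ⟶ Y)
    (h : ∀ (Z : Over S) (a b : Z ⟶ X), (a * b) ≫ f = (a ≫ f) * (b ≫ f)) : IsMonHom f := by
  refine { one_hom := ?_, mul_hom := ?_ }
  · rw [MonObj.one_eq_one, MonObj.one_eq_one]
    have e := h (𝟙_ (Over S)) 1 1
    rw [_root_.one_mul] at e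
    exact left_eq_mul.1 e
  · rw [MonObj.mul_eq_mul X, h, MonObj.mul_eq_mul Y, MonObj.comp_mul, tensorHom_fst, tensorHom_snd]

/-- The product of two points of the cell, for a system without an open cell. -/
theorem setup_cell_mul {H T : Over S} [GrpObj H] [GrpObj T] {j : T ⟶ H} {α : T ⟶ Red.Gm S} {fP fM : Red.Ga S ⟶ H}
    {av : Red.Gm S ⟶ T} (st : RankOne.Setup j α fP fM av) {X : Over S} (y x y' x' : Γ(X.left, ⊤)) (t t' : X ⟶ T)
    (z : (Γ(X.left, ⊤))ˣ) (hz : (z : Γ(X.left, ⊤)) = 1 + x * y') :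
    cell j fP fM y t x * cell j fP fM y' t' x' =
      cell j fP fM (y + y' * (((av' α t * z)⁻¹ : (Γ(X.left, ⊤))ˣ) : Γ(X.left, ⊤))) (t * (st.data X).c z * t')
        (x' + x * (((av' α t' * z)⁻¹ : (Γ(X.left, ⊤))ˣ) : Γ(X.left, ⊤))) := by
  refine (st.data X).cell_mul_cell x y x' y' _ _ t t' z hz ?_ ?_
  · show (_ - y) * (z : Γ(X.left, ⊤)) * (av' α t : Γ(X.left, ⊤)) = y'
    rw [add_sub_cancel_left, mul_assoc, mul_assoc, ← Units.val_mul, ← Units.val_mul, mul_comm z, inv_mul_cancel,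
      Units.val_one, mul_one]
  · show (_ - x') * (z : Γ(X.left, ⊤)) * (av' α t' : Γ(X.left, ⊤)) = x
    rw [add_sub_cancel_left, mul_assoc, mul_assoc, ← Units.val_mul, ← Units.val_mul, mul_comm z, inv_mul_cancel,
      Units.val_one, mul_one]

variable {G T H : Over S} [GrpObj G] [GrpObj T] [GrpObj H] {i : T ⟶ G} {α : T ⟶ Red.Gm S} {pp pm : Red.Ga S ⟶ G}
    {av : Red.Gm S ⟶ T} {fT : T ⟶ H} {fP fM : Red.Ga S ⟶ H}

theorem cell_comp_hom (f : G ⟶ H) [IsMonHom f] {X : Over S} (y : Γ(X.left, ⊤)) (t : X ⟶ T) (x : Γ(X.left, ⊤)) :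
    cell i pp pm y t x ≫ f = cell (i ≫ f) (pp ≫ f) (pm ≫ f) y t x := by
  simp only [cell, rt, MonObj.mul_comp, Category.assoc]

/-- `g` is a cell point and `v` its image. -/
def Rel (i : T ⟶ G) (pp pm : Red.Ga S ⟶ G) (fT : T ⟶ H) (fP fM : Red.Ga S ⟶ H) {X : Over S} (g : X ⟶ G)
    (v : X ⟶ H) : Prop :=
  ∃ (y : Γ(X.left, ⊤)) (t : X ⟶ T) (x : Γ(X.left, ⊤)), g = cell i pp pm y t x ∧ v = cell fT fP fM y t x

theorem exists_rel {X : Over S} {g : X ⟶ G} (h : InCell i pp pm g) :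
    ∃ v, Rel i pp pm fT fP fM g v := by
  obtain ⟨y, t, x, hg⟩ := h
  exact ⟨_, y, t, x, hg, rfl⟩

theorem Rel.inCell {X : Over S} {g : X ⟶ G} {v : X ⟶ H} (h : Rel i pp pm fT fP fM g v) : InCell i pp pm g := by
  obtain ⟨y, t, x, hg, -⟩ := h
  exact ⟨y, t, x, hg⟩

theorem Rel.comp {X X' : Over S} {g : X ⟶ G} {v : X ⟶ H} (h : Rel i pp pm fT fP fM g v) (π : X' ⟶ X) :
    Rel i pp pm fT fP fM (π ≫ g) (π ≫ v) := by
  obtain ⟨y, t, x, rfl, rfl⟩ := h
  exact ⟨_, _, _, comp_cell i pp pm π y t x, comp_cell fT fP fM π y t x⟩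

theorem Sys1.rel_unique (st : Sys1 i α pp pm av) {X : Over S} {g : X ⟶ G} {v v' : X ⟶ H}
    (h : Rel i pp pm fT fP fM g v) (h' : Rel i pp pm fT fP fM g v') : v = v' := by
  obtain ⟨y, t, x, rfl, rfl⟩ := h
  obtain ⟨y', t', x', e, rfl⟩ := h'
  obtain ⟨rfl, rfl, rfl⟩ := st.sys.cell_inj e
  rfl

theorem Sys1.rel_mul (st : Sys1 i α pp pm av) (hc : ∀ (X : Over S) (a b : X ⟶ T), a * b = b * a)
    (se : RankOne.Setup fT α fP fM av) {X : Over S} {g g' : X ⟶ G} {v v' : X ⟶ H}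
    (h : Rel i pp pm fT fP fM g v) (h' : Rel i pp pm fT fP fM g' v') (hm : InCell i pp pm (g * g')) :
    Rel i pp pm fT fP fM (g * g') (v * v') := by
  obtain ⟨y, t, x, rfl, rfl⟩ := h
  obtain ⟨y', t', x', rfl, rfl⟩ := h'
  have hu := st.isUnit_of_inCell_mul hc hm
  exact ⟨_, _, _, st.cell_mul _ _ _ _ _ _ hu.unit hu.unit_spec, setup_cell_mul se _ _ _ _ _ _ hu.unit hu.unit_spec⟩

theorem Sys1.rel_one (st : Sys1 i α pp pm av) (se : RankOne.Setup fT α fP fM av) {X : Over S} :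
    Rel i pp pm fT fP fM (1 : X ⟶ G) 1 := by
  haveI := st.sys.mon_i
  haveI := st.sys.mon_pp
  haveI := st.sys.mon_pm
  haveI := se.mon_i
  haveI := se.mon_pp
  haveI := se.mon_pm
  exact ⟨0, 1, 0, (cell_one i pp pm).symm, (cell_one fT fP fM).symm⟩

/-- The prospective value at `g`, computed with an auxiliary point, does not depend on that point. -/
theorem Sys1.indep (st : Sys1 i α pp pm av) (hG : Conn G) (hc : ∀ (X : Over S) (a b : X ⟶ T), a * b = b * a)
    (se : RankOne.Setup fT α fP fM av) {X : Over S} {g e₁ e₂ : X ⟶ G} {a₁ b₁ a₂ b₂ : X ⟶ H}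
    (h₁ : Rel i pp pm fT fP fM e₁ a₁) (k₁ : Rel i pp pm fT fP fM (g * e₁) b₁)
    (h₂ : Rel i pp pm fT fP fM e₂ a₂) (k₂ : Rel i pp pm fT fP fM (g * e₂) b₂) :
    b₁ * a₁⁻¹ = b₂ * a₂⁻¹ := by
  obtain ⟨X', π, _, _, _, η', hη, hj⟩ := st.sys.exists_translate hG ![e₁⁻¹, e₂⁻¹, g]
  have key : ∀ {e : X ⟶ G} {a b : X ⟶ H}, Rel i pp pm fT fP fM e a → Rel i pp pm fT fP fM (g * e) b →
      InCell i pp pm ((π ≫ e⁻¹) * η') → ∀ {n m : X' ⟶ H}, Rel i pp pm fT fP fM η' n →
        Rel i pp pm fT fP fM ((π ≫ g) * η') m → π ≫ (b * a⁻¹) = m * n⁻¹ := by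
    intro e a b ha hb he n m hn hm
    obtain ⟨c, hc'⟩ := exists_rel (fT := fT) (fP := fP) (fM := fM) he
    have e1 : (π ≫ e) * ((π ≫ e⁻¹) * η') = η' := by rw [GrpObj.comp_inv, mul_inv_cancel_left]
    have e2 : (π ≫ (g * e)) * ((π ≫ e⁻¹) * η') = (π ≫ g) * η' := by
      rw [MonObj.comp_mul, GrpObj.comp_inv, _root_.mul_assoc, mul_inv_cancel_left]
    have r1 := st.rel_mul hc se (ha.comp π) hc' (e1.symm ▸ hn.inCell)
    have r2 := st.rel_mul hc se (hb.comp π) hc' (e2.symm ▸ hm.inCell)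
    rw [e1] at r1
    rw [e2] at r2
    rw [st.rel_unique hn r1, st.rel_unique hm r2, MonObj.comp_mul, GrpObj.comp_inv]
    group
  haveI := epi_of_flat π
  obtain ⟨n, hn⟩ := exists_rel (fT := fT) (fP := fP) (fM := fM) hη
  obtain ⟨m, hm⟩ := exists_rel (fT := fT) (fP := fP) (fM := fM) (hj 2)
  rw [← cancel_epi π, key h₁ k₁ (hj 0) hn hm, key h₂ k₂ (hj 1) hn hm]

/-- Prescribing the torus and the root groups compatibly with the rank-one relations gives a homomorphism. -/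
theorem Sys1.exists_extend (st : Sys1 i α pp pm av) (hG : Conn G) (hc : ∀ (X : Over S) (a b : X ⟶ T), a * b = b * a)
    (se : RankOne.Setup fT α fP fM av) :
    ∃ f : G ⟶ H, IsMonHom f ∧ i ≫ f = fT ∧ pp ≫ f = fP ∧ pm ≫ f = fM := by
  haveI := st.sys.mon_i
  haveI := st.sys.mon_pp
  haveI := st.sys.mon_pm
  haveI := se.mon_i
  haveI := se.mon_pp
  haveI := se.mon_pm
  obtain ⟨X₀, π₀, _, _, _, e₀, he₀, hge₀⟩ := st.sys.exists_translate hG fun _ : PUnit.{1} => 𝟙 G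
  have hge₀' : InCell i pp pm (π₀ * e₀) := by simpa only [Category.comp_id] using hge₀ ⟨⟩
  obtain ⟨a₀, ha₀⟩ := exists_rel (fT := fT) (fP := fP) (fM := fM) he₀
  obtain ⟨b₀, hb₀⟩ := exists_rel (fT := fT) (fP := fP) (fM := fM) hge₀'
  let φ : X₀ ⟶ H := b₀ * a₀⁻¹
  have heq : ∀ {Z : Over S} (a b : Z ⟶ X₀), a ≫ π₀ = b ≫ π₀ → a ≫ φ = b ≫ φ := by
    intro Z a b hab
    have h1 := hb₀.comp a
    have h2 := hb₀.comp b
    rw [MonObj.comp_mul] at h1 h2
    rw [← hab] at h2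
    simp only [φ, MonObj.comp_mul, GrpObj.comp_inv]
    exact st.indep hG hc se (ha₀.comp a) h1 (ha₀.comp b) h2
  let fl : G.left ⟶ H.left := EffectiveEpi.desc π₀.left φ.left fun {W} a b hab => by
    let Z : Over S := Over.mk (a ≫ X₀.hom)
    let a' : Z ⟶ X₀ := Over.homMk a rfl
    let b' : Z ⟶ X₀ := Over.homMk b (by
      show b ≫ X₀.hom = a ≫ X₀.hom
      rw [← Over.w π₀, ← Category.assoc, ← hab, Category.assoc])
    exact congrArg CommaMorphism.left (heq a' b' (Over.OverMorphism.ext hab))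
  have hfl : π₀.left ≫ fl = φ.left := EffectiveEpi.fac _ _ _
  let f : G ⟶ H := Over.homMk fl (by
    haveI := Flat.epi_of_flat_of_surjective π₀.left
    rw [← cancel_epi π₀.left, ← Category.assoc, hfl, Over.w φ, Over.w π₀])
  have hf : π₀ ≫ f = φ := Over.OverMorphism.ext hfl
  have spec : ∀ {X : Over S} (g e : X ⟶ G) (a b : X ⟶ H), Rel i pp pm fT fP fM e a →
      Rel i pp pm fT fP fM (g * e) b → g ≫ f = b * a⁻¹ := by
    intro X g e a b ha hb
    let X' : Over S := Over.mk (pullback.fst g.left π₀.left ≫ X.hom)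
    let p : X' ⟶ X := Over.homMk (pullback.fst g.left π₀.left) rfl
    let q : X' ⟶ X₀ := Over.homMk (pullback.snd g.left π₀.left) (by
      show _ ≫ X₀.hom = _ ≫ X.hom
      rw [← Over.w π₀, ← Category.assoc, ← pullback.condition, Category.assoc, Over.w g])
    have hpq : p ≫ g = q ≫ π₀ := Over.OverMorphism.ext pullback.condition
    haveI : Flat p.left := inferInstanceAs (Flat (pullback.fst g.left π₀.left))
    haveI : Surjective p.left := inferInstanceAs (Surjective (pullback.fst g.left π₀.left))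
    haveI := epi_of_flat p
    rw [← cancel_epi p, ← Category.assoc, hpq, Category.assoc, hf]
    have h1 := hb₀.comp q
    rw [MonObj.comp_mul, ← hpq] at h1
    have h2 := hb.comp p
    rw [MonObj.comp_mul] at h2
    simp only [φ, MonObj.comp_mul, GrpObj.comp_inv]
    exact st.indep hG hc se (ha₀.comp q) h1 (ha.comp p) h2
  have hcell : ∀ {X : Over S} {g : X ⟶ G} {v : X ⟶ H}, Rel i pp pm fT fP fM g v → g ≫ f = v := by
    intro X g v hv
    have h1 : Rel i pp pm fT fP fM (g * 1) v := by rwa [_root_.mul_one]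
    rw [spec g 1 1 v (st.rel_one se) h1, inv_one, _root_.mul_one]
  refine ⟨f, isMonHom_of_mul' f fun X g g' => ?_, ?_, ?_, ?_⟩
  · obtain ⟨X', π, _, _, _, η', hη, hj⟩ := st.sys.exists_translate hG ![g', g * g']
    haveI := epi_of_flat π
    obtain ⟨n, hn⟩ := exists_rel (fT := fT) (fP := fP) (fM := fM) hη
    obtain ⟨m, hm⟩ := exists_rel (fT := fT) (fP := fP) (fM := fM) (hj 0)
    obtain ⟨l, hl⟩ := exists_rel (fT := fT) (fP := fP) (fM := fM) (hj 1)
    change Rel i pp pm fT fP fM ((π ≫ g') * η') m at hm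
    change Rel i pp pm fT fP fM ((π ≫ (g * g')) * η') l at hl
    have hl' := hl
    rw [MonObj.comp_mul, _root_.mul_assoc] at hl'
    rw [← cancel_epi π, MonObj.comp_mul, ← Category.assoc, spec _ _ _ _ hn hl, ← Category.assoc π g f,
      spec (π ≫ g) _ _ _ hm hl', ← Category.assoc π g' f, spec (π ≫ g') _ _ _ hn hm]
    group
  · have h1 := hcell (g := cell i pp pm (0 : Γ(T.left, ⊤)) (𝟙 T) 0) ⟨_, _, _, rfl, rfl⟩
    simpa only [cell, rt_zero, Category.id_comp, _root_.mul_one, _root_.one_mul] using h1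
  · have h1 := hcell (g := cell i pp pm 0 1 (Red.gaFn (𝟙 (Red.Ga S)))) ⟨_, _, _, rfl, rfl⟩
    simpa only [cell, rt_zero, MonObj.one_comp, _root_.one_mul, ← rt_eq _ (𝟙 (Red.Ga S)) rfl,
      Category.id_comp] using h1
  · have h1 := hcell (g := cell i pp pm (Red.gaFn (𝟙 (Red.Ga S))) 1 0) ⟨_, _, _, rfl, rfl⟩
    simpa only [cell, rt_zero, MonObj.one_comp, _root_.mul_one, ← rt_eq _ (𝟙 (Red.Ga S)) rfl,
      Category.id_comp] using h1

/-- Homomorphisms out of a group with a big cell are determined on the torus and the root groups. -/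
theorem Sys.hom_ext (st : Sys i α pp pm) (hG : Conn G) {f f' : G ⟶ H} [IsMonHom f] [IsMonHom f']
    (hi : i ≫ f = i ≫ f') (hp : pp ≫ f = pp ≫ f') (hm : pm ≫ f = pm ≫ f') : f = f' := by
  obtain ⟨X', π, _, _, _, c, d, ⟨y, t, x, rfl⟩, ⟨y', t', x', rfl⟩, he⟩ := st.exists_div hG (𝟙 G)
  haveI := epi_of_flat π
  rw [Category.comp_id] at he
  rw [← cancel_epi π, he]
  simp only [MonObj.mul_comp, GrpObj.inv_comp, rt, Category.assoc, hi, hp, hm]

/-- The extension is unique. -/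
theorem Sys1.existsUnique_extend (st : Sys1 i α pp pm av) (hG : Conn G)
    (hc : ∀ (X : Over S) (a b : X ⟶ T), a * b = b * a) (se : RankOne.Setup fT α fP fM av) :
    ∃! f : G ⟶ H, IsMonHom f ∧ i ≫ f = fT ∧ pp ≫ f = fP ∧ pm ≫ f = fM := by
  obtain ⟨f, hf, h1, h2, h3⟩ := st.exists_extend hG hc se
  refine ⟨f, ⟨hf, h1, h2, h3⟩, ?_⟩
  rintro f' ⟨hf', h1', h2', h3'⟩
  haveI := hf
  haveI := hf'
  exact st.sys.hom_ext hG (h1'.trans h1.symm) (h2'.trans h2.symm) (h3'.trans h3.symm)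

end Groth.Agent.BigCell
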