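import Groth.Agent.BigCellLib.Cell

/-!
# Homomorphisms from `𝔾_a` of a given weight

A homomorphism `p : 𝔾_a ⟶ G` on which a torus acts with weight `β` through elements of `T` whose value of `α` is
`β ^ q` is `x ↦ p₊(ν x ^ q)` for a unique function `ν`.
-/

set_option autoImplicit false
set_option maxHeartbeats 1000000
universe u

open CategoryTheory CategoryTheory.Limits MonoidalCategory CartesianMonoidalCategory AlgebraicGeometry
open Groth.Agent.GaPts
open scoped MonObj

noncomputable section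

namespace Groth.Agent.BigCell

variable {S : Scheme.{u}}

/-- A function on the base, on any point. -/
abbrev pull (X : Over S) (c : Γ((𝟙_ (Over S)).left, ⊤)) : Γ(X.left, ⊤) := (toUnit X).left.appTop c

theorem appTop_pull {X X' : Over S} (g : X' ⟶ X) (c : Γ((𝟙_ (Over S)).left, ⊤)) :
    g.left.appTop (pull X c) = pull X' c := by
  rw [pull, pull, ← comp_toUnit g, Over.comp_left, Scheme.Hom.comp_appTop]
  rfl

/-- The point of a spectrum over an affine point attached to a ring map. -/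
theorem exists_affPoint {Y : Over S} [IsAffine Y.left] {B : Type u} [CommRing B] (φ : Γ(Y.left, ⊤) →+* B)
    {B' : Type u} [CommRing B'] (ψ : B →+* B') :
    ∃ r : affPt Y (ψ.comp φ) ⟶ affPt Y φ, r.left = Spec.map (CommRingCat.ofHom ψ) ∧
      r ≫ affMap Y φ = affMap Y (ψ.comp φ) ∧
      ∀ b, r.left.appTop (affVal Y φ b) = affVal Y (ψ.comp φ) (ψ b) := by
  have hw : Spec.map (CommRingCat.ofHom ψ) ≫ Spec.map (CommRingCat.ofHom φ) =
      Spec.map (CommRingCat.ofHom (ψ.comp φ)) := by rw [← Spec.map_comp]; rfl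
  refine ⟨Over.homMk (Spec.map (CommRingCat.ofHom ψ)) ?_, rfl, ?_, fun b => ?_⟩
  · show Spec.map (CommRingCat.ofHom ψ) ≫ Spec.map (CommRingCat.ofHom φ) ≫ _ = _
    rw [← Category.assoc, hw]
    rfl
  · refine Over.OverMorphism.ext ?_
    show Spec.map (CommRingCat.ofHom ψ) ≫ Spec.map (CommRingCat.ofHom φ) ≫ _ = _
    rw [← Category.assoc, hw]
    rfl
  · exact (congrArg (fun χ => (ConcreteCategory.hom χ) b)
      (Scheme.ΓSpecIso_inv_naturality (CommRingCat.ofHom ψ))).symm

instance subsingleton_fieldPt (K : Type u) [Field K] (a : Spec (CommRingCat.of K) ⟶ S) :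
    Subsingleton (fieldPt K a).left := inferInstanceAs (Subsingleton (PrimeSpectrum K))

theorem surjective_fieldPt {L : Type u} [Field L] {b : Spec (CommRingCat.of L) ⟶ S} {K : Type u} [Field K]
    {a : Spec (CommRingCat.of K) ⟶ S} (π : fieldPt L b ⟶ fieldPt K a) : Surjective π.left :=
  ⟨fun z => ⟨(IsLocalRing.closedPoint L : PrimeSpectrum L), Subsingleton.elim _ _⟩⟩

variable {G T : Over S} [GrpObj G] [GrpObj T] {i : T ⟶ G} {α : T ⟶ Red.Gm S} {pp pm : Red.Ga S ⟶ G}
    {Q : Over S} [GrpObj Q] {β : Q ⟶ Red.Gm S} [IsMonHom β] {p : Red.Ga S ⟶ G} [IsMonHom p] {q : ℕ}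

/-- The image of `p` lies in the cell. -/
theorem Sys.rt_inCell_of_weight (st : Sys i α pp pm) (hc : ∀ (X : Over S) (a b : X ⟶ T), a * b = b * a)
    (hQ : Red.IsTorus Q) (hβ : ∀ s : S, (Over.pullback (Red.geomPt s)).map β ≠ 1)
    (hp : ∀ (X : Over S) (t : X ⟶ Q) (c : Γ(X.left, ⊤)), ∃ s : X ⟶ T, av' α s = (av' β t) ^ q ∧
      (s ≫ i) * rt p c * (s ≫ i)⁻¹ = rt p ((av' β t : Γ(X.left, ⊤)) * c)) {X : Over S} (c : Γ(X.left, ⊤)) :
    InCell i pp pm (rt p c) := by
  haveI := st.mon_i
  haveI := st.mon_pp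
  haveI := st.mon_pm
  refine st.inCell_of_field fun K _ _ a π => ?_
  rw [comp_rt]
  let K₀ := fieldPt K a
  let c₀ : Γ(K₀.left, ⊤) := π.left.appTop c
  by_cases h0 : c₀ = 0
  · exact ⟨0, 1, 0, by rw [show π.left.appTop c = 0 from h0, rt_zero, cell_one]⟩
  haveI : IsAffine K₀.left := inferInstanceAs (IsAffine (Spec (CommRingCat.of K)))
  let A := Γ(K₀.left, ⊤)
  haveI : IsDomain A := MulEquiv.isDomain K (fieldFn K a).toMulEquiv
  let P := affPt K₀ (Polynomial.C : A →+* Polynomial A)
  let g : P ⟶ G := rt p (affVal K₀ Polynomial.C Polynomial.X)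
  obtain ⟨L, hL, hLa, b, r, t, ht⟩ := exists_transcendental hQ β hβ a
  let Z : Γ((fieldPt L b).left, ⊤) := Red.gmFn (t ≫ β)
  let ρ : A →+* Γ((fieldPt L b).left, ⊤) := r.left.appTop.hom
  -- the generic point of the line
  let ψ : Polynomial A →+* L :=
    (fieldFn L b).toRingHom.comp (Polynomial.eval₂RingHom ρ (Z * ρ c₀))
  have hψ : Function.Injective ψ := by
    refine (fieldFn L b).injective.comp ((injective_iff_map_eq_zero _).2 fun f hf => by_contra fun hne => ?_)
    have hne' : f.comp (Polynomial.X * Polynomial.C c₀) ≠ 0 := fun h => by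
      rcases Polynomial.comp_eq_zero_iff.1 h with h | ⟨-, h⟩
      · exact hne h
      · have := congrArg (Polynomial.coeff · 1) h
        simp [Polynomial.coeff_C] at this
        exact h0 this
    refine ht _ hne' ?_
    rw [Polynomial.eval_map, Polynomial.eval₂_comp, Polynomial.eval₂_mul, Polynomial.eval₂_X, Polynomial.eval₂_C]
    exact hf
  haveI : Surjective r.left := surjective_fieldPt r
  have hL' : InCell i pp pm (rt p (Z * ρ c₀)) := by
    let w : fieldPt L b ⟶ P := Over.homMk (Spec.map (CommRingCat.ofHom ψ)) (by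
      have hcomp : ψ.comp Polynomial.C = (fieldFn L b).toRingHom.comp ρ := RingHom.ext fun x => by
        simp [ψ]
      show Spec.map (CommRingCat.ofHom ψ) ≫ Spec.map (CommRingCat.ofHom Polynomial.C) ≫ _ = b
      rw [← Category.assoc, ← Spec.map_comp]
      refine (?_ : Spec.map (CommRingCat.ofHom (ψ.comp Polynomial.C)) ≫ _ = b)
      rw [hcomp]
      have hr : r.left = Spec.map (CommRingCat.ofHom ((fieldFn L b).toRingHom.comp ρ)) ≫ K₀.left.isoSpec.inv := by
        rw [Iso.eq_comp_inv]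
        have h1 : r.left ≫ K₀.left.isoSpec.hom =
            (Spec (CommRingCat.of L)).isoSpec.hom ≫ Spec.map r.left.appTop :=
          (Scheme.isoSpec_hom_naturality r.left).symm
        rw [h1, Scheme.isoSpec_Spec_hom, ← Spec.map_comp]
        rfl
      rw [← Category.assoc, ← hr]
      exact Over.w r)
    have hw : w.left.appTop (affVal K₀ Polynomial.C Polynomial.X) = Z * ρ c₀ := by
      apply (fieldFn L b).injective
      have h1 := congrArg (fun χ => (ConcreteCategory.hom χ) Polynomial.X)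
        (Scheme.ΓSpecIso_inv_naturality (CommRingCat.ofHom ψ))
      have h2 : w.left.appTop (affVal K₀ Polynomial.C Polynomial.X) = (fieldFn L b).symm (ψ Polynomial.X) := h1.symm
      rw [h2, RingEquiv.apply_symm_apply]
      simp [ψ]
    rw [← hw, ← comp_rt]
    refine (inCell_iff_range st.hΩ _).2 ?_
    rintro _ ⟨z, rfl⟩
    haveI := st.hΩ
    let U : P.left.Opens := g.left ⁻¹ᵁ (cellHom i pp pm).left.opensRange
    have hU : (U : Set P.left).Nonempty := by
      obtain ⟨r₀, -, -, hr₀⟩ := exists_affPoint (Y := K₀) (Polynomial.C : A →+* Polynomial A)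
        (Polynomial.evalRingHom (0 : A))
      let K₁ := affPt K₀ ((Polynomial.evalRingHom (0 : A)).comp Polynomial.C)
      haveI : Nonempty K₁.left := inferInstanceAs (Nonempty (PrimeSpectrum A))
      let z₀ : K₁.left := Classical.arbitrary _
      have h2 : (r₀ ≫ g).left z₀ ∈ Set.range (cellHom i pp pm).left := by
        refine (inCell_iff_range st.hΩ _).1 ⟨0, 1, 0, ?_⟩ ⟨z₀, rfl⟩
        rw [comp_rt, hr₀, Polynomial.coe_evalRingHom, Polynomial.eval_X, map_zero, rt_zero, cell_one]
      refine ⟨r₀.left z₀, ?_⟩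
      change g.left (r₀.left z₀) ∈ Set.range (cellHom i pp pm).left
      exact (Scheme.Hom.comp_apply r₀.left g.left z₀) ▸ h2
    have hgen : w.left z ∈ U := by
      obtain ⟨z₁, hz₁⟩ := hU
      refine Specializes.mem_open ?_ U.isOpen hz₁
      refine (PrimeSpectrum.le_iff_specializes (R := Polynomial A) (w.left z) z₁).1 ?_
      show Ideal.comap ψ (z : PrimeSpectrum L).asIdeal ≤ (z₁ : PrimeSpectrum (Polynomial A)).asIdeal
      rw [(Ideal.eq_bot_or_top (z : PrimeSpectrum L).asIdeal).resolve_right (z : PrimeSpectrum L).2.ne_top,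
        Ideal.comap_bot_of_injective _ hψ]
      exact bot_le
    exact (Scheme.Hom.comp_apply w.left g.left z).symm ▸ hgen
  obtain ⟨s, hs, hconj⟩ := hp (fieldPt L b) t (ρ c₀)
  refine st.inCell_of_surjective r ?_
  rw [comp_rt]
  obtain ⟨y, tt, x, hcell⟩ := hL'
  have h3 : rt p (ρ c₀) = (s⁻¹ ≫ i) * cell i pp pm y tt x * (s⁻¹ ≫ i)⁻¹ := by
    rw [GrpObj.inv_comp, inv_inv, ← hcell]
    show _ = _ * rt p ((av' β t : Γ((fieldPt L b).left, ⊤)) * ρ c₀) * _
    rw [← hconj]
    group
  exact ⟨_, _, _, h3.trans (st.cell_conj hc _ _ _ _)⟩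

/-- The expansion of `(a + 1) ^ q - a ^ q - 1`. -/
abbrev dq {R : Type*} [CommRing R] (q : ℕ) (a b : R) : R := (a + b) ^ q - a ^ q - b ^ q

/-- **Homomorphisms of weight `β`.** -/
theorem Sys.exists_coeff_of_weight (st : Sys i α pp pm) (hc : ∀ (X : Over S) (a b : X ⟶ T), a * b = b * a)
    (hQ : Red.IsTorus Q) (hβ : ∀ s : S, (Over.pullback (Red.geomPt s)).map β ≠ 1)
    (hp : ∀ (X : Over S) (t : X ⟶ Q) (c : Γ(X.left, ⊤)), ∃ s : X ⟶ T, av' α s = (av' β t) ^ q ∧
      (s ≫ i) * rt p c * (s ≫ i)⁻¹ = rt p ((av' β t : Γ(X.left, ⊤)) * c)) :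
    ∃ ν : Γ((𝟙_ (Over S)).left, ⊤), ∀ (X : Over S) (c : Γ(X.left, ⊤)), rt p c = rt pp (pull X ν * c ^ q) := by
  haveI := st.mon_i
  haveI := st.mon_pp
  haveI := st.mon_pm
  obtain ⟨y₁, t₁, ν, h₁⟩ := st.rt_inCell_of_weight hc hQ hβ hp (X := 𝟙_ (Over S)) 1
  have hX1 : ∀ X : Over S, rt p (1 : Γ(X.left, ⊤)) = cell i pp pm (pull X y₁) (toUnit X ≫ t₁) (pull X ν) :=
    fun X => by rw [← comp_cell, ← h₁, comp_rt, map_one]
  have hunit : ∀ (X : Over S) (u : (Γ(X.left, ⊤))ˣ), rt p (u : Γ(X.left, ⊤)) =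
      cell i pp pm ((((u ^ q)⁻¹ : (Γ(X.left, ⊤))ˣ) : Γ(X.left, ⊤)) * pull X y₁) (toUnit X ≫ t₁)
        ((u : Γ(X.left, ⊤)) ^ q * pull X ν) := by
    intro X u
    obtain ⟨X', π, hfl, hsu, t, ht⟩ := exists_lift hQ β hβ u
    haveI := epi_of_flat π
    obtain ⟨s, hs, hconj⟩ := hp X' t 1
    have hu : av' β t = Units.map π.left.appTop.hom.toMonoidHom u := Units.ext ht
    rw [← cancel_epi π, comp_rt, comp_cell, map_mul, map_mul, appTop_pull, appTop_pull, ← Category.assoc,
      comp_toUnit, map_pow]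
    rw [hX1, st.cell_conj hc, _root_.mul_one, hu] at hconj
    refine hconj.symm.trans ?_
    rw [hs, hu, ← map_pow, ← map_inv]
    simp only [Units.coe_map, Units.val_pow_eq_pow_val, map_pow]
    rfl
  by_cases hq : q = 0
  · subst hq
    have hone : ∀ (X : Over S) (u : (Γ(X.left, ⊤))ˣ), rt p (u : Γ(X.left, ⊤)) = rt p (1 : Γ(X.left, ⊤)) :=
      fun X u => by rw [hunit, hX1, pow_zero, pow_zero, inv_one, Units.val_one, _root_.one_mul, _root_.one_mul]
    have h1 : ∀ X : Over S, rt p (1 : Γ(X.left, ⊤)) = 1 := fun X => by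
      obtain ⟨X', π, hπ, s, hs⟩ := exists_param X (J := Fin 2) ![1, -1] ![0, 1]
        (fun j => by fin_cases j <;> simp)
      haveI := hπ
      rw [← cancel_epi π, comp_rt, map_one, MonObj.comp_one]
      obtain ⟨u, hu⟩ := (show IsUnit s by simpa using hs 0)
      obtain ⟨v, hv⟩ := (show IsUnit (1 - s) by simpa [neg_mul, neg_add_eq_sub] using hs 1)
      refine left_eq_mul.1 (?_ : rt p (1 : Γ(X'.left, ⊤)) = rt p 1 * rt p 1)
      conv_lhs => rw [← add_sub_cancel s (1 : Γ(X'.left, ⊤)), rt_add, ← hu]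
      rw [← hu] at hv
      rw [← hv, hone, hone]
    refine ⟨0, fun X c => ?_⟩
    obtain ⟨X', π, hπ, s, hs⟩ := exists_param X (J := Fin 2) ![1, -1] ![0, c]
      (fun j => by fin_cases j <;> simp)
    haveI := hπ
    rw [← cancel_epi π, comp_rt, comp_rt, pull, map_zero, zero_mul, map_zero, rt_zero]
    obtain ⟨u, hu⟩ := (show IsUnit s by simpa using hs 0)
    obtain ⟨v, hv⟩ := (show IsUnit (π.left.appTop c - s) by simpa [neg_mul, neg_add_eq_sub] using hs 1)
    rw [← add_sub_cancel s (π.left.appTop c), rt_add, ← hv, ← hu, hone, hone, h1, _root_.mul_one]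
  have hy₁ : y₁ = 0 := eq_zero_of_affine y₁ fun Y π hY => by
    haveI := hY
    let A := Γ(Y.left, ⊤)
    obtain ⟨r, -, hr, hrv⟩ := exists_affPoint (Y := Y) (Polynomial.C : A →+* Polynomial A) Polynomial.toLaurent
    obtain ⟨y, t, x, hcell⟩ :=
      st.rt_inCell_of_weight hc hQ hβ hp (affVal Y Polynomial.C (Polynomial.X : Polynomial A))
    let P := affPt Y (Polynomial.C : A →+* Polynomial A)
    obtain ⟨yb, rfl⟩ : ∃ yb, affVal Y Polynomial.C yb = y :=
      (ConcreteCategory.bijective_of_isIso (Scheme.ΓSpecIso (CommRingCat.of (Polynomial A))).inv).2 y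
    let P' := affPt Y (Polynomial.toLaurent.comp (Polynomial.C : A →+* Polynomial A))
    let e : LaurentPolynomial A →+* Γ(P'.left, ⊤) := affVal Y _
    let u : (Γ(P'.left, ⊤))ˣ := Units.map e.toMonoidHom (LaurentPolynomial.isUnit_T 1).unit
    have hX : r.left.appTop (affVal Y Polynomial.C (Polynomial.X : Polynomial A)) = u := by
      rw [hrv, Polynomial.toLaurent_X]
      rfl
    have h := congrArg (r ≫ ·) hcell
    simp only [comp_rt, comp_cell] at h
    rw [hX, hunit, hrv] at h
    have h2 := (st.cell_inj h).1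
    rw [Units.inv_mul_eq_iff_eq_mul] at h2
    have hy : pull P' y₁ = e (LaurentPolynomial.C (π.left.appTop y₁)) := by
      rw [← appTop_pull (affMap Y _), affMap_appTop]
      show e (Polynomial.toLaurent (Polynomial.C _)) = _
      rw [Polynomial.toLaurent_C, pull, ← comp_toUnit π, Over.comp_left, Scheme.Hom.comp_appTop]
      rfl
    rw [hy] at h2
    have h3 : Polynomial.toLaurent (Polynomial.C (π.left.appTop y₁)) = Polynomial.toLaurent (Polynomial.X ^ q * yb) := by
      apply affVal_injective Y (Polynomial.toLaurent.comp (Polynomial.C : A →+* Polynomial A))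
      rw [Polynomial.toLaurent_C]
      refine h2.trans ?_
      rw [Units.val_pow_eq_pow_val, map_mul, map_mul, Polynomial.toLaurent_X_pow]
      congr 1
      change e ((LaurentPolynomial.isUnit_T (R := A) 1).unit : LaurentPolynomial A) ^ q = _
      rw [← map_pow, IsUnit.unit_spec, LaurentPolynomial.T_pow, _root_.mul_one]
    have h4 := congrArg (Polynomial.coeff · 0) (Polynomial.toLaurent_injective h3)
    simpa [Polynomial.coeff_X_pow_mul', hq, Ne.symm hq] using h4
  have ht₁ : ∀ X : Over S, toUnit X ≫ t₁ = 1 := fun X => by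
    obtain ⟨X', π, hπ, s, hs⟩ := exists_param X (J := Fin 2) ![1, -1] ![0, 1]
      (fun j => by fin_cases j <;> simp)
    haveI := hπ
    rw [← cancel_epi π, MonObj.comp_one, ← Category.assoc, comp_toUnit]
    obtain ⟨u, hu⟩ := (show IsUnit s by simpa using hs 0)
    obtain ⟨v, hv⟩ := (show IsUnit (1 - s) by simpa [neg_mul, neg_add_eq_sub] using hs 1)
    have h := rt_add p s (1 - s)
    rw [add_sub_cancel, hX1, ← hv, ← hu, hunit, hunit, hy₁] at h
    simp only [pull, map_zero, mul_zero, cell, rt_zero, _root_.one_mul] at h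
    let τ := toUnit X' ≫ t₁
    obtain ⟨-, h2, -⟩ := st.cell_inj (y := 0) (y' := 0) (t := τ) (t' := τ * τ) (x := pull X' ν)
      (x' := (av' α τ⁻¹ : Γ(X'.left, ⊤)) * ((u : Γ(X'.left, ⊤)) ^ q * pull X' ν) +
        (v : Γ(X'.left, ⊤)) ^ q * pull X' ν) (by
      simp only [cell, rt_zero, _root_.one_mul, rt_add, ← st.conjP, MonObj.mul_comp, GrpObj.inv_comp, τ]
      rw [h]
      group)
    exact left_eq_mul.1 h2
  have hunit' : ∀ (X : Over S) (u : (Γ(X.left, ⊤))ˣ),
      rt p (u : Γ(X.left, ⊤)) = rt pp (pull X ν * (u : Γ(X.left, ⊤)) ^ q) := fun X u => by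
    rw [hunit, hy₁, ht₁, pull, map_zero, mul_zero, cell, rt_zero, MonObj.one_comp, _root_.one_mul, _root_.one_mul,
      mul_comm]
  have hD : ∀ (X : Over S) (a : Γ(X.left, ⊤)) (b : (Γ(X.left, ⊤))ˣ), pull X ν * dq q a (b : Γ(X.left, ⊤)) = 0 := by
    intro X a b
    suffices h : ∀ (X : Over S) (a : Γ(X.left, ⊤)), pull X ν * dq q a 1 = 0 by
      have h1 := h X (a * ((b⁻¹ : (Γ(X.left, ⊤))ˣ) : Γ(X.left, ⊤)))
      have e : dq q a (b : Γ(X.left, ⊤)) =
          (b : Γ(X.left, ⊤)) ^ q * dq q (a * ((b⁻¹ : (Γ(X.left, ⊤))ˣ) : Γ(X.left, ⊤))) 1 := by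
        simp only [dq, mul_sub, ← mul_pow, mul_add, mul_one, one_pow, mul_left_comm _ a, Units.mul_inv]
      rw [e, mul_left_comm, h1, mul_zero]
    clear a b
    intro X a
    refine eq_zero_of_affine _ fun Y π hY => ?_
    haveI := hY
    let A := Γ(Y.left, ⊤)
    let f : Polynomial A := Polynomial.X * (Polynomial.X + Polynomial.C 1)
    have hmonic : f.Monic := Polynomial.monic_X.mul (Polynomial.monic_X_add_C 1)
    obtain ⟨r, -, -, hrv⟩ := exists_affPoint (Y := Y) (Polynomial.C : A →+* Polynomial A)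
      (algebraMap (Polynomial A) (Localization.Away f))
    let P' := affPt Y ((algebraMap (Polynomial A) (Localization.Away f)).comp Polynomial.C)
    let e : Localization.Away f →+* Γ(P'.left, ⊤) := affVal Y _
    let θ : Polynomial A →+* Γ(P'.left, ⊤) := e.comp (algebraMap _ _)
    have hf : IsUnit (θ f) := (IsLocalization.Away.algebraMap_isUnit f).map e
    simp only [f, map_mul, map_add, map_one, IsUnit.mul_iff] at hf
    obtain ⟨⟨u, hu⟩, ⟨w, hw⟩⟩ := hf
    have h := rt_add p (θ Polynomial.X) (1 : Γ(P'.left, ⊤))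
    rw [← hw, hunit', ← hu, hunit', show (1 : Γ(P'.left, ⊤)) = ((1 : (Γ(P'.left, ⊤))ˣ) : Γ(P'.left, ⊤)) from rfl,
      hunit', ← rt_add, hu, hw] at h
    have h2 := st.rt_pp_inj h
    have hν : pull P' ν = θ (Polynomial.C (pull Y ν)) := by
      rw [← appTop_pull (affMap Y _), affMap_appTop]
      rfl
    rw [Units.val_one, hν] at h2
    have h3 : θ (Polynomial.C (pull Y ν) * dq q Polynomial.X 1) = 0 := by
      simp only [map_mul, dq, map_sub, map_pow, map_add, map_one]
      linear_combination h2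
    have h4 : Polynomial.C (pull Y ν) * dq q (Polynomial.X : Polynomial A) 1 = 0 := by
      refine IsLocalization.injective (Localization.Away f) (M := Submonoid.powers f)
        (powers_le_nonZeroDivisors_of_monic f hmonic) ?_
      apply affVal_injective Y ((algebraMap (Polynomial A) (Localization.Away f)).comp Polynomial.C)
      rw [map_zero, map_zero]
      exact h3
    have h5 := congrArg (Polynomial.evalRingHom (π.left.appTop a)) h4
    simp only [Polynomial.coe_evalRingHom, dq, Polynomial.eval_mul, Polynomial.eval_C, Polynomial.eval_sub,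
      Polynomial.eval_pow, Polynomial.eval_add, Polynomial.eval_X, Polynomial.eval_one, Polynomial.eval_zero] at h5
    rw [map_mul, appTop_pull]
    simpa only [dq, map_sub, map_pow, map_add, map_one] using h5
  refine ⟨ν, fun X c => ?_⟩
  obtain ⟨X', π, hπ, s, hs⟩ := exists_param X (J := Fin 2) ![1, -1] ![0, c]
    (fun j => by fin_cases j <;> simp)
  haveI := hπ
  rw [← cancel_epi π, comp_rt, comp_rt, map_mul, map_pow, appTop_pull]
  obtain ⟨u, hu⟩ := (show IsUnit s by simpa using hs 0)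
  obtain ⟨v, hv⟩ := (show IsUnit (π.left.appTop c - s) by simpa [neg_mul, neg_add_eq_sub] using hs 1)
  have hsum : π.left.appTop c = (u : Γ(X'.left, ⊤)) + v := by rw [hu, hv, add_sub_cancel]
  rw [hsum, rt_add, hunit', hunit', ← rt_add]
  congr 1
  have := hD X' u v
  linear_combination -this
where
  powers_le_nonZeroDivisors_of_monic {A : Type u} [CommRing A] (f : Polynomial A) (hf : f.Monic) :
      Submonoid.powers f ≤ nonZeroDivisors (Polynomial A) :=
    Submonoid.powers_le.2 hf.mem_nonZeroDivisors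

end Groth.Agent.BigCell
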