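import Groth.Agent.BigCellLib.Extend
import Groth.Agent.BigCellLib.Root

/-!
# Homomorphisms between two rank-one systems

`f ≫ (x ↦ p(c x^q))` on the positive root group, and what the three conditions on coroot, Weyl elements and
negative root group say about one another.
-/

set_option autoImplicit false
set_option maxHeartbeats 1000000
universe u

open CategoryTheory CategoryTheory.Limits MonoidalCategory CartesianMonoidalCategory AlgebraicGeometry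
open Groth.Agent.GaPts
open Groth.Agent.RankOne (eq_ptOf eq_ptOfUnit comp_ptOf)
open scoped MonObj

noncomputable section

namespace Groth.Agent.BigCell

variable {S : Scheme.{u}}

/-- The value of an `S`-point of `𝔾_m` on any point. -/
abbrev cU (c : 𝟙_ (Over S) ⟶ Red.Gm S) (X : Over S) : (Γ(X.left, ⊤))ˣ := GmPts.unitOfPt (toUnit X ≫ c)

theorem appTop_cU (c : 𝟙_ (Over S) ⟶ Red.Gm S) {X X' : Over S} (g : X' ⟶ X) :
    g.left.appTop (cU c X : Γ(X.left, ⊤)) = cU c X' := by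
  rw [cU, cU, ← comp_toUnit g, Category.assoc, GmPts.unitOfPt_comp g]
  rfl

theorem map_cU (c : 𝟙_ (Over S) ⟶ Red.Gm S) {X X' : Over S} (g : X' ⟶ X) :
    Units.map g.left.appTop.hom.toMonoidHom (cU c X) = cU c X' :=
  Units.ext (appTop_cU c g)

theorem cU_inv (c : 𝟙_ (Over S) ⟶ Red.Gm S) (X : Over S) : cU c⁻¹ X = (cU c X)⁻¹ := by
  rw [cU, cU, GrpObj.comp_inv, GmPts.unitOfPt_inv]

theorem neg_pow_of_add {R : Type u} [CommRing R] {q : ℕ} (hq0 : 0 < q)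
    (hq : ∀ a b : R, (a + b) ^ q = a ^ q + b ^ q) (a : R) : (-a) ^ q = -a ^ q := by
  have h := hq a (-a)
  rw [add_neg_cancel, zero_pow hq0.ne'] at h
  linear_combination -h

/-- `x ↦ c x^q`. -/
def pw (c : 𝟙_ (Over S) ⟶ Red.Gm S) (q : ℕ) : Red.Ga S ⟶ Red.Ga S :=
  ptOf ((cU c (Red.Ga S) : Γ((Red.Ga S).left, ⊤)) * Red.gaFn (𝟙 (Red.Ga S)) ^ q)

theorem comp_pw (c : 𝟙_ (Over S) ⟶ Red.Gm S) (q : ℕ) {X : Over S} (x : X ⟶ Red.Ga S) :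
    x ≫ pw c q = ptOf ((cU c X : Γ(X.left, ⊤)) * Red.gaFn x ^ q) := by
  rw [pw, comp_ptOf, map_mul, map_pow, appTop_cU, ← gaFn_comp, Category.comp_id]

theorem rt_pw {G : Over S} (p : Red.Ga S ⟶ G) (c : 𝟙_ (Over S) ⟶ Red.Gm S) (q : ℕ) {X : Over S} (a : Γ(X.left, ⊤)) :
    rt (pw c q ≫ p) a = rt p ((cU c X : Γ(X.left, ⊤)) * a ^ q) := by
  rw [rt, rt, ← Category.assoc, comp_pw, gaFn_ptOf]

theorem isMonHom_pw (c : 𝟙_ (Over S) ⟶ Red.Gm S) (q : ℕ)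
    (hq : ∀ (X : Over S) (a b : Γ(X.left, ⊤)), (a + b) ^ q = a ^ q + b ^ q) : IsMonHom (pw c q) :=
  isMonHom_of_mul' _ fun X a b => by
    rw [comp_pw, comp_pw, comp_pw, ← RankOne.ptOf_add, gaFn_mul, hq, mul_add]

/-- Hypotheses of the calculus, from their versions on functions. -/
theorem mkSetup {H T : Over S} [GrpObj H] [GrpObj T] {j : T ⟶ H} [IsMonHom j] {α : T ⟶ Red.Gm S} [IsMonHom α]
    {fP fM : Red.Ga S ⟶ H} [IsMonHom fP] [IsMonHom fM] {av : Red.Gm S ⟶ T} [IsMonHom av]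
    (h2 : av ≫ α = (𝟙 (Red.Gm S)) ^ 2)
    (hP : ∀ (X : Over S) (t : X ⟶ T) (a : Γ(X.left, ⊤)),
      (t ≫ j) * rt fP a * (t ≫ j)⁻¹ = rt fP ((av' α t : Γ(X.left, ⊤)) * a))
    (hM : ∀ (X : Over S) (t : X ⟶ T) (a : Γ(X.left, ⊤)),
      (t ≫ j) * rt fM a * (t ≫ j)⁻¹ = rt fM ((((av' α t)⁻¹ : (Γ(X.left, ⊤))ˣ) : Γ(X.left, ⊤)) * a))
    (hF : ∀ (X : Over S) (x y : Γ(X.left, ⊤)) (z : (Γ(X.left, ⊤))ˣ), (z : Γ(X.left, ⊤)) = 1 + x * y →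
      rt fP x * rt fM y = rt fM (y * ((z⁻¹ : (Γ(X.left, ⊤))ˣ) : Γ(X.left, ⊤))) * (GmPts.ptOfUnit z ≫ av ≫ j) *
        rt fP (x * ((z⁻¹ : (Γ(X.left, ⊤))ˣ) : Γ(X.left, ⊤)))) :
    RankOne.Setup j α fP fM av := by
  refine ⟨inferInstance, inferInstance, inferInstance, inferInstance, inferInstance, fun X t x => ?_,
    fun X t y => ?_, h2, fun X x y h => ?_⟩
  · refine ⟨ptOf ((av' α t : Γ(X.left, ⊤)) * Red.gaFn x), ?_, by rw [gaFn_ptOf, ← GmPts.val_unitOfPt]⟩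
    rw [rt_eq fP x rfl, hP]
  · refine ⟨ptOf ((((av' α t)⁻¹ : (Γ(X.left, ⊤))ˣ) : Γ(X.left, ⊤)) * Red.gaFn y), ?_, ?_⟩
    · rw [rt_eq fM y rfl, hM]
    · rw [gaFn_ptOf, ← GmPts.val_unitOfPt, mul_comm, ← mul_assoc, Units.mul_inv, one_mul]
  · refine ⟨ptOf (Red.gaFn x * ((h.unit⁻¹ : (Γ(X.left, ⊤))ˣ) : Γ(X.left, ⊤))),
      ptOf (Red.gaFn y * ((h.unit⁻¹ : (Γ(X.left, ⊤))ˣ) : Γ(X.left, ⊤))), GmPts.ptOfUnit h.unit, ?_, ?_, ?_, ?_⟩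
    · rw [GmPts.gmFn_ptOfUnit, h.unit_spec]
    · rw [gaFn_ptOf, GmPts.gmFn_ptOfUnit, mul_assoc, Units.inv_mul, mul_one]
    · rw [gaFn_ptOf, GmPts.gmFn_ptOfUnit, mul_assoc, Units.inv_mul, mul_one]
    · rw [rt_eq fP x rfl, rt_eq fM y rfl, hF X _ _ _ h.unit_spec]

variable {G T G' T' : Over S} [GrpObj G] [GrpObj T] [GrpObj G'] [GrpObj T'] {i : T ⟶ G} {α : T ⟶ Red.Gm S}
    {pp pm : Red.Ga S ⟶ G} {av : Red.Gm S ⟶ T} {i' : T' ⟶ G'} {α' : T' ⟶ Red.Gm S}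
    {pp' pm' : Red.Ga S ⟶ G'} {av₁ : Red.Gm S ⟶ T'} {c : 𝟙_ (Over S) ⟶ Red.Gm S} {q : ℕ}

/-- The prescribed images satisfy the rank-one relations. -/
theorem Sys1.setup_pow (st : Sys1 i α pp pm av) (st' : Sys1 i' α' pp' pm' av₁)
    (hq : ∀ (X : Over S) (a b : Γ(X.left, ⊤)), (a + b) ^ q = a ^ q + b ^ q) (c : 𝟙_ (Over S) ⟶ Red.Gm S)
    {fT : T ⟶ T'} [IsMonHom fT] (hfTα : fT ≫ α' = α ^ q) (hfTav : av ≫ fT = av₁ ^ q) :
    RankOne.Setup (fT ≫ i') α (pw c q ≫ pp') (pw c⁻¹ q ≫ pm') av := by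
  haveI := st.sys.mon_α
  haveI := st.mon_av
  haveI := st'.sys.mon_i
  haveI := st'.sys.mon_pp
  haveI := st'.sys.mon_pm
  haveI := isMonHom_pw c q hq
  haveI := isMonHom_pw c⁻¹ q hq
  have ha : ∀ {X : Over S} (t : X ⟶ T), av' α' (t ≫ fT) = (av' α t) ^ q := fun {X} t => by
    rw [av', Category.assoc, hfTα, MonObj.comp_pow]
    exact map_pow (GmPts.equiv X) _ q
  refine mkSetup st.h2 (fun X t a => ?_) (fun X t a => ?_) fun X x y z hz => ?_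
  · rw [rt_pw, rt_pw, ← Category.assoc t fT i', st'.sys.conjP, ha, Units.val_pow_eq_pow_val, mul_pow]
    congr 1; ring
  · rw [rt_pw, rt_pw, ← Category.assoc t fT i', st'.sys.conjM, ha, ← inv_pow, Units.val_pow_eq_pow_val, mul_pow]
    congr 1; ring
  · have hh : GmPts.ptOfUnit z ≫ av ≫ fT ≫ i' = (st'.D X).h (z ^ q) := by
      show _ = (st'.D X).c (z ^ q) ≫ i'
      rw [← Category.assoc av fT i', hfTav, map_pow, ← Category.assoc, MonObj.comp_pow]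
      rfl
    rw [rt_pw, rt_pw, rt_pw, rt_pw, hh]
    have hz' : ((z ^ q : (Γ(X.left, ⊤))ˣ) : Γ(X.left, ⊤)) =
        1 + ((cU c X : Γ(X.left, ⊤)) * x ^ q) * ((cU c⁻¹ X : Γ(X.left, ⊤)) * y ^ q) := by
      rw [Units.val_pow_eq_pow_val, hz, hq, one_pow, mul_pow, cU_inv]
      linear_combination (-(x ^ q * y ^ q)) * (cU c X).mul_inv
    refine ((st'.D X).F' _ _ _ hz').trans ?_
    show rt pm' _ * (st'.D X).h _ * rt pp' _ = _
    simp only [← inv_pow, Units.val_pow_eq_pow_val, mul_pow, mul_assoc]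

/-- Sums of two units generate: two homomorphisms out of `𝔾_a` agree when they agree on units. -/
theorem hom_ext_units {H : Over S} [GrpObj H] {p p' : Red.Ga S ⟶ H} [IsMonHom p] [IsMonHom p']
    (h : ∀ (X : Over S) (u : (Γ(X.left, ⊤))ˣ), rt p (u : Γ(X.left, ⊤)) = rt p' (u : Γ(X.left, ⊤))) : p = p' := by
  let A : Over S := Red.Ga S
  let a := Red.gaFn (𝟙 A)
  obtain ⟨X', π, hπ, s, hs⟩ := exists_param A ![(1 : Γ(A.left, ⊤)), 1] ![a, 0]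
    (fun k => Or.inl (by fin_cases k <;> exact isUnit_one))
  haveI := hπ
  have h0 := hs 0
  have h1 := hs 1
  simp only [Matrix.cons_val_zero, Matrix.cons_val_one, map_one, one_mul, map_zero, add_zero] at h0 h1
  have hp : ∀ g : Red.Ga S ⟶ H, g = rt g a := fun g => by rw [← rt_eq g (𝟙 A) rfl, Category.id_comp]
  rw [← cancel_epi π, hp p, hp p', comp_rt, comp_rt,
    show π.left.appTop a = (h0.unit : Γ(X'.left, ⊤)) + -(h1.unit : Γ(X'.left, ⊤)) by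
      rw [h0.unit_spec, h1.unit_spec]; ring,
    rt_add, rt_add, rt_neg, rt_neg, h, h]

/-- The image of a Weyl element. -/
theorem Sys1.w_comp_hom (st : Sys1 i α pp pm av) (f : G ⟶ G') [IsMonHom f] {X : Over S} (x : (Γ(X.left, ⊤))ˣ) :
    (st.D X).w x ≫ f = rt (pp ≫ f) (x : Γ(X.left, ⊤)) * rt (pm ≫ f) (-((x⁻¹ : (Γ(X.left, ⊤))ˣ) : Γ(X.left, ⊤))) *
      rt (pp ≫ f) (x : Γ(X.left, ⊤)) := by
  show (rt pp _ * rt pm _ * rt pp _) ≫ f = _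
  simp only [MonObj.mul_comp, rt, Category.assoc]

/-- (iii) ⇒ (i). -/
theorem Sys1.h_of_pm (st : Sys1 i α pp pm av) (st' : Sys1 i' α' pp' pm' av₁) (hq0 : 0 < q)
    (hq : ∀ (X : Over S) (a b : Γ(X.left, ⊤)), (a + b) ^ q = a ^ q + b ^ q) (f : G ⟶ G') [IsMonHom f]
    (hf : pp ≫ f = pw c q ≫ pp') (hfm : pm ≫ f = pw c⁻¹ q ≫ pm') {X : Over S} (z : (Γ(X.left, ⊤))ˣ) :
    (st.D X).h z ≫ f = (st'.D X).h (z ^ q) := by
  haveI := st'.sys.mon_pm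
  have e := (st.D X).h_eq_prod z
  have hne : (-1 : Γ(X.left, ⊤)) ^ q = -1 := by rw [neg_pow_of_add hq0 (hq X), one_pow]
  have hz' : ((z ^ q : (Γ(X.left, ⊤))ˣ) : Γ(X.left, ⊤)) =
      1 + (cU c X : Γ(X.left, ⊤)) * ((cU c⁻¹ X : Γ(X.left, ⊤)) * ((z : Γ(X.left, ⊤)) - 1) ^ q) := by
    rw [Units.val_pow_eq_pow_val, sub_eq_add_neg, hq, hne, cU_inv, ← mul_assoc, Units.mul_inv, one_mul]
    ring
  rw [e]
  show (rt pm _ * rt pp _ * rt pm _ * rt pp _) ≫ f = _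
  simp only [MonObj.mul_comp, rt, Category.assoc, hf, hfm]
  show rt (pw c⁻¹ q ≫ pm') _ * rt (pw c q ≫ pp') _ * rt (pw c⁻¹ q ≫ pm') _ * rt (pw c q ≫ pp') _ = _
  rw [rt_pw, rt_pw, rt_pw, rt_pw, one_pow, mul_one, _root_.mul_assoc (rt pm' _) (rt pp' _) (rt pm' _)]
  erw [(st'.D X).F' _ _ _ hz']
  show rt pm' _ * (rt pm' _ * (st'.D X).h _ * rt pp' _) * rt pp' _ = _
  haveI := st'.sys.mon_pp
  rw [← _root_.mul_assoc, ← _root_.mul_assoc, ← rt_add, _root_.mul_assoc, ← rt_add]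
  have e1 : (cU c⁻¹ X : Γ(X.left, ⊤)) * ((1 - (z : Γ(X.left, ⊤))) * ((z⁻¹ : (Γ(X.left, ⊤))ˣ) : Γ(X.left, ⊤))) ^ q +
      (cU c⁻¹ X : Γ(X.left, ⊤)) * ((z : Γ(X.left, ⊤)) - 1) ^ q *
        (((z ^ q)⁻¹ : (Γ(X.left, ⊤))ˣ) : Γ(X.left, ⊤)) = 0 := by
    rw [← inv_pow, Units.val_pow_eq_pow_val, ← neg_sub, mul_pow, neg_pow_of_add hq0 (hq X)]
    ring
  have e2 : (cU c X : Γ(X.left, ⊤)) * (((z ^ q)⁻¹ : (Γ(X.left, ⊤))ˣ) : Γ(X.left, ⊤)) +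
      (cU c X : Γ(X.left, ⊤)) * (-((z⁻¹ : (Γ(X.left, ⊤))ˣ) : Γ(X.left, ⊤))) ^ q = 0 := by
    rw [← inv_pow, Units.val_pow_eq_pow_val, neg_pow_of_add hq0 (hq X)]
    ring
  rw [e1, e2, rt_zero, rt_zero, _root_.mul_one, _root_.one_mul]

/-- (iii) ⇒ (ii). -/
theorem Sys1.w_of_pm (st : Sys1 i α pp pm av) (st' : Sys1 i' α' pp' pm' av₁) (hq0 : 0 < q)
    (hq : ∀ (X : Over S) (a b : Γ(X.left, ⊤)), (a + b) ^ q = a ^ q + b ^ q) (f : G ⟶ G') [IsMonHom f]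
    (hf : pp ≫ f = pw c q ≫ pp') (hfm : pm ≫ f = pw c⁻¹ q ≫ pm') {X : Over S} (x : (Γ(X.left, ⊤))ˣ) :
    (st.D X).w x ≫ f = (st'.D X).w (cU c X * x ^ q) := by
  rw [st.w_comp_hom f x, hf, hfm, rt_pw, rt_pw, neg_pow_of_add hq0 (hq X)]
  show _ = rt pp' _ * rt pm' _ * rt pp' _
  rw [Units.val_mul, Units.val_pow_eq_pow_val, mul_inv, Units.val_mul, ← cU_inv, ← inv_pow,
    Units.val_pow_eq_pow_val, mul_neg]

/-- (i) ⇒ (ii). -/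
theorem Sys1.w_of_h (st : Sys1 i α pp pm av) (st' : Sys1 i' α' pp' pm' av₁) (hG' : Conn G') (hT' : Red.IsTorus T')
    (hα' : ∀ s : S, (Over.pullback (Red.geomPt s)).map α' ≠ 1) (hq0 : 0 < q) (f : G ⟶ G') [IsMonHom f]
    (hf : pp ≫ f = pw c q ≫ pp')
    (hh : ∀ (X : Over S) (z : (Γ(X.left, ⊤))ˣ), (st.D X).h z ≫ f = (st'.D X).h (z ^ q)) {X : Over S}
    (x : (Γ(X.left, ⊤))ˣ) :
    (st.D X).w x ≫ f = (st'.D X).w (cU c X * x ^ q) := by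
  haveI := st.sys.mon_pp
  haveI := st'.sys.mon_pp
  refine st'.eq_w hG' hT' hα' (q : ℤ) (Int.natCast_ne_zero.2 hq0.ne') _ _ (fun X' π z => ?_) ?_
  · rw [← Category.assoc, st.comp_w, zpow_natCast, ← hh, ← GrpObj.inv_comp, ← GrpObj.inv_comp, ← MonObj.mul_comp,
      ← MonObj.mul_comp]
    congr 1
    have h1 := (st.D X').w_h z⁻¹ (Units.map π.left.appTop.hom.toMonoidHom x)
    rw [map_inv, inv_inv] at h1
    rw [h1, mul_inv_cancel_right]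
  · have hP : ∀ a : Γ(X.left, ⊤), rt pp a ≫ f = rt pp' ((cU c X : Γ(X.left, ⊤)) * a ^ q) := fun a => by
      rw [← rt_pw, ← hf, rt, rt, Category.assoc]
    have e : rt pp' ((cU c X * x ^ q : (Γ(X.left, ⊤))ˣ) : Γ(X.left, ⊤)) = rt pp (x : Γ(X.left, ⊤)) ≫ f := by
      rw [hP, Units.val_mul, Units.val_pow_eq_pow_val]
    rw [rt_neg, e, ← GrpObj.inv_comp, ← GrpObj.inv_comp, ← MonObj.mul_comp, ← MonObj.mul_comp, ← MonObj.mul_comp,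
      ← MonObj.mul_comp]
    congr 1
    refine (st.setup.w_P X x).trans ?_
    show _ = ((st.D X).P _)⁻¹ * ((st.D X).P _ * (st.D X).M _ * (st.D X).P _) * ((st.D X).P _)⁻¹
    group

/-- (ii) ⇒ (iii). -/
theorem Sys1.pm_of_w (st : Sys1 i α pp pm av) (st' : Sys1 i' α' pp' pm' av₁) (hq0 : 0 < q)
    (hq : ∀ (X : Over S) (a b : Γ(X.left, ⊤)), (a + b) ^ q = a ^ q + b ^ q) (f : G ⟶ G') [IsMonHom f]
    (hf : pp ≫ f = pw c q ≫ pp')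
    (hw : ∀ (X : Over S) (x : (Γ(X.left, ⊤))ˣ), (st.D X).w x ≫ f = (st'.D X).w (cU c X * x ^ q)) :
    pm ≫ f = pw c⁻¹ q ≫ pm' := by
  haveI := st.sys.mon_pm
  haveI := st'.sys.mon_pm
  haveI := isMonHom_pw c⁻¹ q hq
  refine hom_ext_units fun X y => ?_
  let x : (Γ(X.left, ⊤))ˣ := (-y)⁻¹
  have h1 : ((st.D X).w x * (st.D X).P x * ((st.D X).w x)⁻¹) ≫ f = (st.D X).M (-((x⁻¹ : (Γ(X.left, ⊤))ˣ) : Γ(X.left, ⊤))) ≫ f :=
    congrArg (· ≫ f) (st.setup.w_P X x)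
  have hy : -((x⁻¹ : (Γ(X.left, ⊤))ˣ) : Γ(X.left, ⊤)) = y := by
    simp only [x, inv_inv, Units.val_neg, neg_neg]
  have h2 := st'.setup.w_P X (cU c X * x ^ q)
  rw [MonObj.mul_comp, MonObj.mul_comp, GrpObj.inv_comp, hw, hy] at h1
  change _ * (rt pp _ ≫ f) * _ = rt pm _ ≫ f at h1
  rw [rt, rt, Category.assoc, Category.assoc, hf] at h1
  change _ * rt (pw c q ≫ pp') _ * _ = rt (pm ≫ f) _ at h1
  rw [rt_pw, ← Units.val_pow_eq_pow_val, ← Units.val_mul] at h1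
  rw [← h1, rt_pw]
  refine h2.trans ?_
  show rt pm' _ = _
  congr 1
  rw [mul_inv, Units.val_mul, ← cU_inv, ← inv_pow, Units.val_pow_eq_pow_val, ← mul_neg,
    ← neg_pow_of_add hq0 (hq X), hy]

/-- (i) ⇒ (iii). -/
theorem Sys1.pm_of_h (st : Sys1 i α pp pm av) (st' : Sys1 i' α' pp' pm' av₁) (hG' : Conn G') (hT' : Red.IsTorus T')
    (hα' : ∀ s : S, (Over.pullback (Red.geomPt s)).map α' ≠ 1) (hq0 : 0 < q)
    (hq : ∀ (X : Over S) (a b : Γ(X.left, ⊤)), (a + b) ^ q = a ^ q + b ^ q) (f : G ⟶ G') [IsMonHom f]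
    (hf : pp ≫ f = pw c q ≫ pp')
    (hh : ∀ (X : Over S) (z : (Γ(X.left, ⊤))ˣ), (st.D X).h z ≫ f = (st'.D X).h (z ^ q)) :
    pm ≫ f = pw c⁻¹ q ≫ pm' :=
  st.pm_of_w st' hq0 hq f hf fun _ x => st.w_of_h st' hG' hT' hα' hq0 f hf hh x

end Groth.Agent.BigCell
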