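import Groth.Agent.RankOneLib.Points
import Mathlib

/-!
# Points of `𝔾_a` and `𝔾_m`: localisation tricks for functions

`exists_param` produces, after a flat surjection, a function avoiding finitely many linear conditions.
-/

set_option autoImplicit false
set_option maxHeartbeats 1000000
universe u

open CategoryTheory CategoryTheory.Limits MonoidalCategory CartesianMonoidalCategory AlgebraicGeometry
open Groth.Agent.GaPts
open scoped MonObj

noncomputable section

namespace Groth.Agent.BigCell

variable {S : Scheme.{u}}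

theorem epi_of_flat {X' X : Over S} (π : X' ⟶ X) [Flat π.left] [Surjective π.left] : Epi π :=
  haveI := Flat.epi_of_flat_of_surjective π.left
  (Over.forget S).epi_of_epi_map (show Epi π.left from inferInstance)

theorem appTop_injective {X' X : Over S} (π : X' ⟶ X) [Epi π] : Function.Injective π.left.appTop := by
  intro a b h
  have h' : (ptOf a : X ⟶ Red.Ga S) = ptOf b := by
    rw [← cancel_epi π, RankOne.comp_ptOf, RankOne.comp_ptOf, h]
  simpa only [gaFn_ptOf] using congrArg Red.gaFn h'

theorem eq_of_affine {X Z : Over S} {f g : X ⟶ Z}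
    (h : ∀ (Y : Over S) (π : Y ⟶ X), IsAffine Y.left → π ≫ f = π ≫ g) : f = g := by
  refine Over.OverMorphism.ext (X.left.affineCover.hom_ext _ _ fun i => ?_)
  exact congrArg CommaMorphism.left
    (h (Over.mk (X.left.affineCover.f i ≫ X.hom)) (Over.homMk (X.left.affineCover.f i)) (inferInstanceAs (IsAffine (X.left.affineCover.X i))))

theorem eq_zero_of_affine {X : Over S} (c : Γ(X.left, ⊤))
    (h : ∀ (Y : Over S) (π : Y ⟶ X), IsAffine Y.left → π.left.appTop c = 0) : c = 0 := by
  have h' : (ptOf c : X ⟶ Red.Ga S) = ptOf 0 := eq_of_affine fun Y π hY => by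
    rw [RankOne.comp_ptOf, RankOne.comp_ptOf, h Y π hY, map_zero]
  simpa only [gaFn_ptOf] using congrArg Red.gaFn h'

/-! ## Spectra over an affine point -/

/-- The point with values in `B` attached to a ring map out of the functions of an affine point. -/
def affPt (X : Over S) [IsAffine X.left] {B : Type u} [CommRing B] (φ : Γ(X.left, ⊤) →+* B) : Over S :=
  Over.mk (Spec.map (CommRingCat.ofHom φ) ≫ X.left.isoSpec.inv ≫ X.hom)

/-- The structure map of `affPt`. -/
def affMap (X : Over S) [IsAffine X.left] {B : Type u} [CommRing B] (φ : Γ(X.left, ⊤) →+* B) : affPt X φ ⟶ X :=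
  Over.homMk (Spec.map (CommRingCat.ofHom φ) ≫ X.left.isoSpec.inv) (Category.assoc _ _ _)

theorem isoSpec_inv_appTop (X : Scheme.{u}) [IsAffine X] :
    X.isoSpec.inv.appTop = (Scheme.ΓSpecIso Γ(X, ⊤)).inv := by
  have h := congrArg Scheme.Hom.appTop X.isoSpec_inv_toSpecΓ
  rw [Scheme.Hom.comp_appTop, Scheme.toSpecΓ_appTop, Scheme.Hom.id_appTop] at h
  exact (Iso.hom_comp_eq_id _).1 h

/-- The functions on `affPt`. -/
def affVal (X : Over S) [IsAffine X.left] {B : Type u} [CommRing B] (φ : Γ(X.left, ⊤) →+* B) :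
    B →+* Γ((affPt X φ).left, ⊤) :=
  (Scheme.ΓSpecIso (CommRingCat.of B)).inv.hom

theorem affVal_injective (X : Over S) [IsAffine X.left] {B : Type u} [CommRing B] (φ : Γ(X.left, ⊤) →+* B) :
    Function.Injective (affVal X φ) :=
  (ConcreteCategory.bijective_of_isIso (Scheme.ΓSpecIso (CommRingCat.of B)).inv).1

theorem affMap_appTop (X : Over S) [IsAffine X.left] {B : Type u} [CommRing B] (φ : Γ(X.left, ⊤) →+* B)
    (c : Γ(X.left, ⊤)) : (affMap X φ).left.appTop c = affVal X φ (φ c) := by
  change (Spec.map (CommRingCat.ofHom φ) ≫ X.left.isoSpec.inv).appTop c = _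
  rw [Scheme.Hom.comp_appTop, isoSpec_inv_appTop, ← Scheme.ΓSpecIso_inv_naturality]
  rfl

/-! ## Field points -/

/-- A point with values in a field. -/
abbrev fieldPt (K : Type u) [Field K] (a : Spec (CommRingCat.of K) ⟶ S) : Over S := Over.mk a

/-- The functions on a field point. -/
def fieldFn (K : Type u) [Field K] (a : Spec (CommRingCat.of K) ⟶ S) : Γ((fieldPt K a).left, ⊤) ≃+* K :=
  (Scheme.ΓSpecIso (CommRingCat.of K)).commRingCatIsoToRingEquiv

theorem isField_fieldPt (K : Type u) [Field K] (a : Spec (CommRingCat.of K) ⟶ S) :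
    IsField Γ((fieldPt K a).left, ⊤) :=
  MulEquiv.isField (Field.toIsField K) (fieldFn K a).toMulEquiv

theorem isUnit_of_ne_zero {K : Type u} [Field K] {a : Spec (CommRingCat.of K) ⟶ S} {c : Γ((fieldPt K a).left, ⊤)}
    (hc : c ≠ 0) : IsUnit c := by
  obtain ⟨d, hd⟩ := (isField_fieldPt K a).mul_inv_cancel hc
  exact IsUnit.of_mul_eq_one d hd

theorem exists_geomPt (X : Over S) (x : X.left) :
    ∃ (K : Type u) (_ : Field K) (_ : IsAlgClosed K) (a : Spec (CommRingCat.of K) ⟶ S) (p : fieldPt K a ⟶ X),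
      ∀ z, p.left z = x := by
  let q : Spec (CommRingCat.of (AlgebraicClosure (X.left.residueField x))) ⟶ X.left :=
    Spec.map (CommRingCat.ofHom (algebraMap (X.left.residueField x) (AlgebraicClosure (X.left.residueField x)))) ≫
      X.left.fromSpecResidueField x
  refine ⟨_, _, inferInstance, q ≫ X.hom, Over.homMk q rfl, fun z => ?_⟩
  change q z = x
  rw [Scheme.Hom.comp_apply]
  exact Scheme.fromSpecResidueField_apply _ _

/-- A point lands in an open subscheme when every field-valued point does. -/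
theorem range_subset_of_field {X : Over S} (U : Set X.left)
    (h : ∀ (K : Type u) [Field K] [IsAlgClosed K] (a : Spec (CommRingCat.of K) ⟶ S) (p : fieldPt K a ⟶ X),
      Set.range p.left ⊆ U) : U = Set.univ := by
  refine Set.eq_univ_of_forall fun x => ?_
  obtain ⟨K, _, _, a, p, hp⟩ := exists_geomPt X x
  exact h K a p ⟨IsLocalRing.closedPoint K, hp _⟩

/-! ## The main tricks -/

theorem flat_Ga (S : Scheme.{u}) : Flat (Red.Ga S).hom := by
  haveI : Module.Free (ULift.{u} ℤ) (SymmetricAlgebra (ULift.{u} ℤ) (ULift.{u} ℤ)) :=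
    Module.Free.of_basis ((MvPolynomial.basisMonomials PUnit.{1} (ULift.{u} ℤ)).map
      (SymmetricAlgebra.equivMvPolynomial (Module.Basis.singleton PUnit.{1} (ULift.{u} ℤ))).symm.toLinearEquiv)
  have h : Flat Red.GaZ.{u}.hom := by
    change Flat (Spec.map _)
    rw [HasRingHomProperty.Spec_iff (P := @Flat)]
    exact RingHom.flat_algebraMap_iff.2 inferInstance
  haveI := h
  change Flat (pullback.snd Red.GaZ.{u}.hom (Limits.IsTerminal.from specULiftZIsTerminal S))
  infer_instance

theorem eq_zero_of_pow {X : Over S} (c : Γ(X.left, ⊤)) {k : ℕ} (hk : k ≠ 0)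
    (h : ∀ (X' : Over S) (π : X' ⟶ X) (z : (Γ(X'.left, ⊤))ˣ),
      (z : Γ(X'.left, ⊤)) ^ k * π.left.appTop c = π.left.appTop c) : c = 0 := by
  refine eq_zero_of_affine c fun Y π hY => ?_
  let d := π.left.appTop c
  let φ : Γ(Y.left, ⊤) →+* LaurentPolynomial Γ(Y.left, ⊤) := LaurentPolynomial.C
  let z : (Γ((affPt Y φ).left, ⊤))ˣ :=
    Units.map (affVal Y φ).toMonoidHom (LaurentPolynomial.isUnit_T 1).unit
  have hd := h (affPt Y φ) (affMap Y φ ≫ π) z
  have he : (affMap Y φ ≫ π).left.appTop c = affVal Y φ (LaurentPolynomial.C d) := by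
    rw [Over.comp_left, Scheme.Hom.comp_appTop]
    exact affMap_appTop Y φ d
  have hz : (z : Γ((affPt Y φ).left, ⊤)) ^ k = affVal Y φ (LaurentPolynomial.T (k : ℤ)) := by
    change affVal Y φ ((LaurentPolynomial.isUnit_T (R := Γ(Y.left, ⊤)) 1).unit : LaurentPolynomial Γ(Y.left, ⊤)) ^ k = _
    rw [IsUnit.unit_spec, ← map_pow, LaurentPolynomial.T_pow, mul_one]
  rw [he, hz] at hd
  have h0 := affVal_injective Y φ ((map_mul (affVal Y φ) _ _).trans hd)
  rw [mul_comm, ← LaurentPolynomial.single_eq_C_mul_T, ← LaurentPolynomial.single_eq_C] at h0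
  have hk' : (k : ℤ) ≠ 0 := Nat.cast_ne_zero.2 hk
  have h1 := congrArg (fun f : LaurentPolynomial Γ(Y.left, ⊤) => f.coeff (k : ℤ)) h0
  simp only [AddMonoidAlgebra.coeff_single, Finsupp.single_eq_same, Finsupp.single_eq_of_ne hk'] at h1
  exact h1

theorem exists_param (X : Over S) {J : Type} [Fintype J] (a b : J → Γ(X.left, ⊤))
    (h : ∀ i, IsUnit (a i) ∨ IsUnit (b i)) :
    ∃ (X' : Over S) (π : X' ⟶ X) (_ : Epi π) (s : Γ(X'.left, ⊤)),
      ∀ i, IsUnit (π.left.appTop (a i) * s + π.left.appTop (b i)) := by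
  classical
  let P : Over S := X ⊗ Red.Ga S
  let t : Γ(P.left, ⊤) := Red.gaFn (snd X (Red.Ga S))
  let f : J → Γ(P.left, ⊤) := fun i =>
    (fst X (Red.Ga S)).left.appTop (a i) * t + (fst X (Red.Ga S)).left.appTop (b i)
  let U : P.left.Opens := P.left.basicOpen (∏ i, f i)
  have pt : ∀ {K : Type u} [Field K] {k : Spec (CommRingCat.of K) ⟶ S}, (fieldPt K k).left := fun {K} _ {k} =>
    (IsLocalRing.closedPoint K : PrimeSpectrum K)
  let X' : Over S := Over.mk (U.ι ≫ P.hom)
  let j : X' ⟶ P := Over.homMk U.ι rfl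
  let π : X' ⟶ X := j ≫ fst _ _
  have hu : IsUnit (j.left.appTop (∏ i, f i)) := by
    refine RingedSpace.isUnit_of_isUnit_germ (X := X'.left.toRingedSpace) ⊤ _ fun x _ => ?_
    refine (X'.left.mem_basicOpen (U := ⊤) _ x trivial).1 ?_
    rw [← Scheme.preimage_basicOpen_top]
    exact x.2
  haveI : Flat π.left := by
    haveI := flat_Ga S
    haveI : Flat (fst X (Red.Ga S)).left := by rw [Over.fst_left]; infer_instance
    change Flat (U.ι ≫ (fst X (Red.Ga S)).left)
    infer_instance
  haveI : Surjective π.left := ⟨fun x => by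
    obtain ⟨K, _, _, k, p, hp⟩ := exists_geomPt X x
    let e := fieldFn K k
    obtain ⟨r, hr⟩ := Infinite.exists_notMem_finset
      (Finset.univ.image fun i => -(e (p.left.appTop (b i))) / e (p.left.appTop (a i)))
    let q : fieldPt K k ⟶ P := lift p (ptOf (e.symm r))
    have hq : ∀ i, IsUnit (q.left.appTop (f i)) := fun i => by
      have h1 : q.left.appTop (f i) = p.left.appTop (a i) * e.symm r + p.left.appTop (b i) := by
        have hfst : ∀ c, q.left.appTop ((fst X (Red.Ga S)).left.appTop c) = p.left.appTop c := fun c => by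
          rw [← ConcreteCategory.comp_apply, ← Scheme.Hom.comp_appTop, ← Over.comp_left, lift_fst]
        have hsnd : q.left.appTop t = e.symm r := by
          rw [← gaFn_comp, lift_snd, gaFn_ptOf]
        simp only [f, map_add, map_mul, hfst, hsnd]
      rw [h1]
      refine isUnit_of_ne_zero fun h0 => ?_
      have h2 := congrArg e h0
      rw [map_add, map_mul, e.apply_symm_apply, map_zero] at h2
      by_cases ha : e (p.left.appTop (a i)) = 0
      · rw [ha, zero_mul, zero_add] at h2
        rcases h i with hi | hi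
        · exact (((hi.map p.left.appTop.hom).map e)).ne_zero ha
        · exact (((hi.map p.left.appTop.hom).map e)).ne_zero h2
      · refine hr (Finset.mem_image.2 ⟨i, Finset.mem_univ _, ?_⟩)
        rw [div_eq_iff ha]
        linear_combination -h2
    have hz : q.left pt ∈ U := by
      change pt ∈ q.left ⁻¹ᵁ P.left.basicOpen _
      rw [Scheme.preimage_basicOpen_top, Scheme.basicOpen_of_isUnit _ (by
        rw [map_prod]; exact IsUnit.prod_univ_iff.2 hq)]
      trivial
    refine ⟨⟨_, hz⟩, ?_⟩
    change (fst X (Red.Ga S)).left (q.left _) = x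
    rw [← Scheme.Hom.comp_apply, ← Over.comp_left, lift_fst]
    exact hp _⟩
  refine ⟨X', π, epi_of_flat π, j.left.appTop t, fun i => ?_⟩
  rw [map_prod] at hu
  have := IsUnit.prod_univ_iff.1 hu i
  simpa only [f, π, map_add, map_mul, Over.comp_left, Scheme.Hom.comp_appTop, ConcreteCategory.comp_apply] using this

end Groth.Agent.BigCell
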