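import Groth.Agent.BigCellLib.Cell
import Groth.Agent.SweepSix.FlatCancel

/-!
# Faithful flatness of homomorphisms from faithful flatness on the cells
-/

set_option autoImplicit false
set_option maxHeartbeats 1000000
universe u

open CategoryTheory CategoryTheory.Limits MonoidalCategory CartesianMonoidalCategory AlgebraicGeometry
open scoped MonObj

noncomputable section

namespace Groth.Agent.BigCell

variable {S : Scheme.{u}}

theorem prop_tensorHom (P : MorphismProperty Scheme.{u}) [P.IsStableUnderBaseChange] [P.IsStableUnderComposition]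
    {A A' B B' : Over S} (f : A ⟶ A') (g : B ⟶ B') (hf : P f.left) (hg : P g.left) : P (f ⊗ₘ g).left := by
  rw [Over.tensorHom_left]
  exact P.pullbackMap hf hg (Over.w f).symm (Over.w g).symm

theorem flat_of_flat_comp {X Y Z : Scheme.{u}} (f : X ⟶ Y) (g : Y ⟶ Z) [Flat f] [Surjective f]
    (h : Flat (f ≫ g)) : Flat g := by
  refine Flat.of_stalkMap g fun y => ?_
  obtain ⟨x, rfl⟩ := f.surjective y
  exact (SweepSix.flat_stalkMap_comp_iff f g x (Flat.stalkMap f x)).1 (Flat.stalkMap _ x)

variable {G T : Over S} [GrpObj G] [GrpObj T] {i : T ⟶ G} {α : T ⟶ Red.Gm S} {pp pm : Red.Ga S ⟶ G}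

/-- `(a, b) ↦ a b⁻¹` on two copies of the cell. -/
def divMap (i : T ⟶ G) (pp pm : Red.Ga S ⟶ G) :
    (((Red.Ga S ⊗ T) ⊗ Red.Ga S) ⊗ ((Red.Ga S ⊗ T) ⊗ Red.Ga S)) ⟶ G :=
  (fst _ _ ≫ cellHom i pp pm) * (snd _ _ ≫ cellHom i pp pm)⁻¹

theorem Sys.flat_divMap (st : Sys i α pp pm) [Smooth G.hom] : Flat (divMap i pp pm).left := by
  haveI := st.hΩ
  let σ : G ⊗ G ≅ G ⊗ G :=
    { hom := lift (fst G G * (snd G G)⁻¹) (snd G G)
      inv := lift (fst G G * snd G G) (snd G G)
      hom_inv_id := by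
        refine CartesianMonoidalCategory.hom_ext _ _ ?_ ?_
        · rw [Category.assoc, lift_fst, MonObj.comp_mul, lift_fst, lift_snd, inv_mul_cancel_right, Category.id_comp]
        · rw [Category.assoc, lift_snd, lift_snd, Category.id_comp]
      inv_hom_id := by
        refine CartesianMonoidalCategory.hom_ext _ _ ?_ ?_
        · rw [Category.assoc, lift_fst, MonObj.comp_mul, GrpObj.comp_inv, lift_fst, lift_snd, mul_inv_cancel_right,
            Category.id_comp]
        · rw [Category.assoc, lift_snd, lift_snd, Category.id_comp] }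
  have e : divMap i pp pm = (cellHom i pp pm ⊗ₘ cellHom i pp pm) ≫ σ.hom ≫ fst G G := by
    simp only [σ, lift_fst, divMap, MonObj.comp_mul, GrpObj.comp_inv, tensorHom_fst, tensorHom_snd]
  haveI : Flat (cellHom i pp pm ⊗ₘ cellHom i pp pm).left :=
    prop_tensorHom @Flat _ _ inferInstance inferInstance
  haveI : IsIso σ.hom.left := ((Over.forget S).mapIso σ).isIso_hom
  haveI : Flat (fst G G).left := by rw [Over.fst_left]; infer_instance
  rw [e, Over.comp_left, Over.comp_left]
  infer_instance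

theorem Sys.surjective_divMap (st : Sys i α pp pm) (hG : Conn G) : Surjective (divMap i pp pm).left := ⟨fun x => by
  obtain ⟨K, _, _, a, p, hp⟩ := exists_geomPt G x
  obtain ⟨X', π, _, _, _, c, d, ⟨y, t, v, rfl⟩, ⟨y', t', v', rfl⟩, he⟩ := st.exists_div hG p
  let z : (fieldPt K a).left := (IsLocalRing.closedPoint K : PrimeSpectrum K)
  obtain ⟨w, hw⟩ := π.left.surjective z
  let q : X' ⟶ ((Red.Ga S ⊗ T) ⊗ Red.Ga S) ⊗ ((Red.Ga S ⊗ T) ⊗ Red.Ga S) :=
    lift (lift (lift (GaPts.ptOf y) t) (GaPts.ptOf v)) (lift (lift (GaPts.ptOf y') t') (GaPts.ptOf v'))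
  have hq : q ≫ divMap i pp pm = π ≫ p := by
    simp only [divMap, MonObj.comp_mul, GrpObj.comp_inv, q, lift_fst_assoc, lift_snd_assoc]
    rw [lift_cellHom, lift_cellHom, he]
  refine ⟨q.left w, ?_⟩
  have h1 := congrArg (fun g : X' ⟶ G => g.left w) hq
  simp only [Over.comp_left, Scheme.Hom.comp_apply] at h1
  rw [hw] at h1
  exact h1.trans (hp z)⟩

variable {G' T' : Over S} [GrpObj G'] [GrpObj T'] {i' : T' ⟶ G'} {α' : T' ⟶ Red.Gm S} {pp' pm' : Red.Ga S ⟶ G'}

/-- A homomorphism which is faithfully flat on the cells is faithfully flat. -/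
theorem Sys.flat_surjective_of_cell (st : Sys i α pp pm) (st' : Sys i' α' pp' pm') (hG : Conn G) (hG' : Conn G')
    (f : G ⟶ G') [IsMonHom f] (h : (Red.Ga S ⊗ T) ⊗ Red.Ga S ⟶ (Red.Ga S ⊗ T') ⊗ Red.Ga S) [Flat h.left]
    [Surjective h.left] (hcomp : cellHom i pp pm ≫ f = h ≫ cellHom i' pp' pm') :
    Flat f.left ∧ Surjective f.left := by
  haveI := hG.smooth
  haveI := hG'.smooth
  haveI := st.flat_divMap
  haveI := st.surjective_divMap hG
  haveI := st'.flat_divMap
  haveI := st'.surjective_divMap hG'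
  have e : divMap i pp pm ≫ f = (h ⊗ₘ h) ≫ divMap i' pp' pm' := by
    simp only [divMap, MonObj.mul_comp, GrpObj.inv_comp, Category.assoc, hcomp, MonObj.comp_mul, GrpObj.comp_inv,
      tensorHom_fst_assoc, tensorHom_snd_assoc]
  haveI : Flat (h ⊗ₘ h).left := prop_tensorHom @Flat _ _ inferInstance inferInstance
  haveI : Surjective (h ⊗ₘ h).left := prop_tensorHom @Surjective _ _ inferInstance inferInstance
  have e' : (divMap i pp pm).left ≫ f.left = (h ⊗ₘ h).left ≫ (divMap i' pp' pm').left := by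
    rw [← Over.comp_left, ← Over.comp_left, e]
  refine ⟨flat_of_flat_comp (divMap i pp pm).left f.left (by rw [e']; infer_instance), ?_⟩
  haveI : Surjective ((divMap i pp pm).left ≫ f.left) := by rw [e']; infer_instance
  exact Surjective.of_comp (divMap i pp pm).left f.left

end Groth.Agent.BigCell
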