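import Groth.Agent.BigCellLib.Pts
import Groth.Agent.MultSubLib.Chars
import Groth.Agent.KummerExactLib.Basic
import Groth.Agent.HomRepLib.Transfer

/-!
# Tori: commutativity, and lifting units through non-trivial characters
-/

set_option autoImplicit false
set_option maxHeartbeats 1000000
universe u

open CategoryTheory CategoryTheory.Limits MonoidalCategory CartesianMonoidalCategory AlgebraicGeometry
open scoped MonObj

noncomputable section

namespace Groth.Agent.BigCell

open Groth.Agent.HomRep (bcEquiv bcEquiv_mul bcEquiv_symm_mul)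

variable {S P : Scheme.{u}}

theorem props_DSmap (S : Scheme.{u}) {M N : Type} [AddCommGroup M] [AddCommGroup N] (φ : M →+ N)
    (hφ : Function.Injective φ) : Flat (Red.DSmap S φ).left ∧ Surjective (Red.DSmap S φ).left := by
  have hφ' : Function.Injective φ.toMultiplicative := fun a b h =>
    Multiplicative.toAdd.injective (hφ (congrArg Multiplicative.toAdd h))
  let θ := (MonoidAlgebra.mapDomainAlgHom (ULift.{u} ℤ) (ULift.{u} ℤ) φ.toMultiplicative).toRingHom
  have hff : θ.FaithfullyFlat := Groth.Agent.MultHom.faithfullyFlat_mapDomain _ hφ'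
  obtain ⟨h1, h2⟩ := RingHom.FaithfullyFlat.iff_flat_and_comap_surjective.1 hff
  have gflat : Flat (Red.diagMap (ULift.{u} ℤ) φ).left := by
    show Flat (Spec.map (CommRingCat.ofHom θ))
    exact (HasRingHomProperty.Spec_iff (P := @Flat)).2 h1
  have gsurj : Surjective (Red.diagMap (ULift.{u} ℤ) φ).left := by
    show Surjective (Spec.map (CommRingCat.ofHom θ))
    exact ⟨h2⟩
  have sq := KummerExactLib.isPullback_DSmap (S := S) φ
  exact ⟨MorphismProperty.of_isPullback sq gflat, MorphismProperty.of_isPullback sq gsurj⟩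

variable (p : P ⟶ S) {T : Over S} [GrpObj T] {M : Type} [AddCommGroup M]

/-- A point of `T` defined by a point of a split form of it. -/
def tau (j : Red.DS P M ⟶ Red.bc p T) {Y : Over P} (a : Y ⟶ Red.DS P M) : (Over.map p).obj Y ⟶ T :=
  (bcEquiv p T Y).symm (a ≫ j)

theorem tau_comp (j : Red.DS P M ⟶ Red.bc p T) {Y Y' : Over P} (g : Y' ⟶ Y) (a : Y ⟶ Red.DS P M) :
    tau p j (g ≫ a) = (Over.map p).map g ≫ tau p j a := by
  rw [tau, tau, Category.assoc]
  exact (Over.mapPullbackAdj p).homEquiv_naturality_left_symm g _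

theorem tau_mul (j : Red.DS P M ⟶ Red.bc p T) [IsMonHom j] {Y : Over P} (a b : Y ⟶ Red.DS P M) :
    tau p j (a * b) = tau p j a * tau p j b := by
  rw [tau, MonObj.mul_comp, bcEquiv_symm_mul]
  rfl

theorem exists_tau (j : Red.DS P M ≅ Red.bc p T) {Y : Over P} (t : (Over.map p).obj Y ⟶ T) :
    ∃ a, tau p j.hom a = t :=
  ⟨bcEquiv p T Y t ≫ j.inv, by rw [tau, Category.assoc, Iso.inv_hom_id, Category.comp_id, Equiv.symm_apply_apply]⟩

theorem bcEquiv_one (G : Over S) [GrpObj G] (Y : Over P) : bcEquiv p G Y 1 = 1 := by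
  have h := bcEquiv_mul p G Y 1 1
  rw [_root_.one_mul] at h
  exact left_eq_mul.1 h

/-- Triviality of a character over one geometric point. -/
theorem exists_map_eq_one (α : T ⟶ Red.Gm S) {K : Type u} [Field K] [IsAlgClosed K] (a : Spec (CommRingCat.of K) ⟶ S)
    (h : ∀ (Y : Over (Spec (CommRingCat.of K))) (t : (Over.map a).obj Y ⟶ T), t ≫ α = 1) :
    ∃ s : S, (Over.pullback (Red.geomPt s)).map α = 1 := by
  obtain ⟨s, φ, rfl⟩ : ∃ (s : S) (φ : S.residueField s ⟶ CommRingCat.of K),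
      Spec.map φ ≫ S.fromSpecResidueField s = a :=
    ⟨_, _, Scheme.descResidueField_stalkClosedPointTo_fromSpecResidueField K S a⟩
  letI : Algebra (S.residueField s) K := φ.hom.toAlgebra
  let ψ : AlgebraicClosure (S.residueField s) →ₐ[S.residueField s] K := IsAlgClosed.lift
  let c := Spec.map (CommRingCat.ofHom ψ.toRingHom)
  have hc : c ≫ Red.geomPt s = Spec.map φ ≫ S.fromSpecResidueField s := by
    rw [Red.geomPt, ← Category.assoc, ← Spec.map_comp]
    congr 2
    ext b
    exact ψ.commutes b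
  haveI : Surjective c := ⟨fun q => ⟨(IsLocalRing.closedPoint K : PrimeSpectrum K),
    @Subsingleton.elim (PrimeSpectrum (AlgebraicClosure (S.residueField s))) inferInstance _ _⟩⟩
  haveI : Flat c := by
    rw [HasRingHomProperty.Spec_iff (P := @Flat)]
    letI := ψ.toRingHom.toAlgebra
    exact (inferInstance : Module.Flat (AlgebraicClosure (S.residueField s)) K)
  refine ⟨s, ?_⟩
  let Y₀ := (Over.pullback (Red.geomPt s)).obj T
  let t₀ : (Over.map (Red.geomPt s)).obj Y₀ ⟶ T := (bcEquiv (Red.geomPt s) T Y₀).symm (𝟙 _)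
  let W : Over S := Over.mk (pullback.fst Y₀.hom c ≫ Y₀.hom ≫ Red.geomPt s)
  let π : W ⟶ (Over.map (Red.geomPt s)).obj Y₀ := Over.homMk (pullback.fst Y₀.hom c) rfl
  haveI : Flat π.left := inferInstanceAs (Flat (pullback.fst Y₀.hom c))
  haveI : Surjective π.left := inferInstanceAs (Surjective (pullback.fst Y₀.hom c))
  haveI := epi_of_flat π
  let e : (Over.map (Spec.map φ ≫ S.fromSpecResidueField s)).obj (Over.mk (pullback.snd Y₀.hom c)) ≅ W :=
    Over.isoMk (Iso.refl _) (by
      show 𝟙 _ ≫ pullback.fst Y₀.hom c ≫ Y₀.hom ≫ Red.geomPt s = pullback.snd Y₀.hom c ≫ _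
      rw [Category.id_comp, pullback.condition_assoc, hc]; rfl)
  have h1 : t₀ ≫ α = 1 := by
    rw [← cancel_epi π, ← cancel_epi e.hom, MonObj.comp_one, MonObj.comp_one, ← Category.assoc, ← Category.assoc]
    exact h _ _
  have h2 : bcEquiv (Red.geomPt s) (Red.Gm S) Y₀ (t₀ ≫ α) = (Over.pullback (Red.geomPt s)).map α := by
    refine ((Over.mapPullbackAdj (Red.geomPt s)).homEquiv_naturality_right t₀ α).trans ?_
    show bcEquiv (Red.geomPt s) T Y₀ t₀ ≫ _ = _
    rw [Equiv.apply_symm_apply]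
    exact Category.id_comp _
  rw [← h2, h1]
  exact bcEquiv_one _ _ _

/-- On a split piece a character is, locally, given by an element of the character group. -/
theorem exists_piece (j : Red.DS P M ≅ Red.bc p T) [IsMonHom j.hom] [AddGroup.FG M] [Module.IsTorsionFree ℤ M] (α : T ⟶ Red.Gm S) [IsMonHom α]
    (hα : ∀ s : S, (Over.pullback (Red.geomPt s)).map α ≠ 1) (x : P) :
    ∃ V : P.Opens, x ∈ V ∧ ∃ φ : ℤ →+ M, Function.Injective φ ∧
      ∀ (Y : Over P), Set.range Y.hom ⊆ (V : Set P) → ∀ a : Y ⟶ Red.DS P M,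
        Red.gmFn (X := (Over.map p).obj Y) (tau p j.hom a ≫ α) = Red.gmFn (a ≫ Red.DSmap P φ) := by
  let D := Red.DS P M
  let t0 := tau p j.hom (𝟙 D)
  let v : (Γ(D.left, ⊤))ˣ := GmPts.unitOfPt (S := S) (T := (Over.map p).obj D) (t0 ≫ α)
  let θ : D ⟶ Red.Gm P := GmPts.ptOfUnit v
  have hθ : ∀ (Y : Over P) (a : Y ⟶ D),
      Red.gmFn (a ≫ θ) = Red.gmFn (X := (Over.map p).obj Y) (tau p j.hom a ≫ α) := fun Y a => by
    conv_rhs => rw [← Category.comp_id a, tau_comp, Category.assoc, GmPts.gmFn_comp]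
    rw [GmPts.gmFn_comp, GmPts.gmFn_ptOfUnit]
    rfl
  have hθmul : ∀ (Y : Over P) (a b : Y ⟶ D), (a * b) ≫ θ = (a ≫ θ) * (b ≫ θ) := fun Y a b => by
    refine GmPts.gmFn_injective ?_
    show Red.gmFn _ = Red.gmFn _
    rw [GmPts.gmFn_mul, hθ, hθ, hθ, tau_mul, MonObj.mul_comp, GmPts.gmFn_mul]
  haveI : IsMonHom θ := Groth.Agent.RedRank.isMonHom_of_mul _ hθmul
  have hfam : AutFam.IsHomFamily D (Red.Gm P) (fst D (𝟙_ (Over P)) ≫ θ) := by
    intro W g₁ g₂ t
    simp only [lift_fst_assoc, MonObj.mul_comp]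
  obtain ⟨U, i, hi, hix, ψ, hψ⟩ := MultSubLib.exists_open_dd (M := M) (N := ℤ)
    (fst D (𝟙_ (Over P)) ≫ θ) hfam x
  haveI := hi
  let V : P.Opens := i.left.opensRange
  have key : ∀ (Y : Over P), Set.range Y.hom ⊆ (V : Set P) → ∀ a : Y ⟶ D, a ≫ θ = a ≫ MultSubLib.dd P ψ := by
    intro Y hY a
    let g : Y.left ⟶ U.left := IsOpenImmersion.lift i.left Y.hom hY
    have hg : g ≫ i.left = Y.hom := IsOpenImmersion.lift_fac _ _ _
    have hUi : i.left = U.hom := by
      have := Over.w i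
      rw [← this]
      exact (Category.comp_id _).symm
    let g' : Y ⟶ U := Over.homMk g (by rw [← hUi]; exact hg)
    have h' := congrArg (fun f => lift a g' ≫ f) hψ
    erw [lift_whiskerLeft_assoc, lift_fst_assoc, lift_fst_assoc] at h'
    exact h'
  refine ⟨V, hix, AddMonoidHom.toMultiplicative.symm ψ, ?_, fun Y hY a => ?_⟩
  · by_cases h1 : ψ (Multiplicative.ofAdd 1) = 1
    · exfalso
      have hψ1 : ψ = 1 := MonoidHom.ext_mint h1
      let q : Spec (CommRingCat.of (AlgebraicClosure (P.residueField x))) ⟶ P :=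
        Spec.map (CommRingCat.ofHom (algebraMap (P.residueField x) (AlgebraicClosure (P.residueField x)))) ≫
          P.fromSpecResidueField x
      obtain ⟨s, hs⟩ := exists_map_eq_one α (q ≫ p) fun Y t => by
        let Y' : Over P := Over.mk (Y.hom ≫ q)
        let t' : (Over.map p).obj Y' ⟶ T := Over.homMk t.left ((Over.w t).trans (Category.assoc _ _ _).symm)
        obtain ⟨a, ha⟩ := exists_tau p j t'
        have hY : Set.range Y'.hom ⊆ (V : Set P) := by
          rintro _ ⟨y, rfl⟩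
          show (Y.hom ≫ q) y ∈ (V : Set P)
          simp only [q, Scheme.Hom.comp_apply]
          exact (Scheme.fromSpecResidueField_apply x _).symm ▸ (show x ∈ (V : Set P) from hix)
        have h1 : t' ≫ α = 1 := by
          refine GmPts.gmFn_injective ?_
          show Red.gmFn _ = Red.gmFn _
          rw [← ha, ← hθ, key Y' hY a]
          have : a ≫ MultSubLib.dd P ψ = 1 := by
            refine MultSubLib.chars_injective ?_
            rw [MultSubLib.chars_comp_dd, hψ1, MonoidHom.comp_one, MultSubLib.chars_one]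
          rw [this, GmPts.gmFn_one, GmPts.gmFn_one]
        refine GmPts.gmFn_injective ?_
        show Red.gmFn _ = Red.gmFn _
        rw [GmPts.gmFn_one]
        have h2 := congrArg Red.gmFn h1
        rw [GmPts.gmFn_one] at h2
        exact h2
      exact hα s hs
    · have h1' : (AddMonoidHom.toMultiplicative.symm ψ : ℤ →+ M) 1 ≠ 0 := fun e =>
        h1 (by simpa using congrArg Multiplicative.ofAdd e)
      have : (AddMonoidHom.toMultiplicative.symm ψ : ℤ →+ M) =
          zmultiplesHom M ((AddMonoidHom.toMultiplicative.symm ψ : ℤ →+ M) 1) := AddMonoidHom.ext_int (by simp)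
      rw [this]
      intro m n h
      simp only [zmultiplesHom_apply] at h
      exact smul_left_injective ℤ h1' h
  · have hdd : MultSubLib.dd P ψ = Red.DSmap P (AddMonoidHom.toMultiplicative.symm ψ : ℤ →+ M) := by
      conv_rhs => rw [← Category.id_comp (Red.DSmap P _), ← MultSubLib.dsPt_chars (𝟙 D),
        KummerExactLib.dsPt_DSmap]
      rfl
    rw [← hθ, key Y hY a, hdd]


/-- A torus, a character, and pieces of a flat cover over which both are standard. -/
theorem exists_split_cover {T : Over S} [GrpObj T] (hT : Red.IsTorus T) :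
    ∃ (I : Type u) (P : I → Scheme.{u}) (p : ∀ i, P i ⟶ S), (∀ i, Flat (p i)) ∧ (∀ x : S, ∃ i, x ∈ Set.range (p i)) ∧
      ∀ i, ∃ (r : ℕ) (j : Red.DS (P i) (Fin r → ℤ) ≅ Red.bc (p i) T), IsMonHom j.hom := by
  obtain ⟨S', f, hflat, hsurj, -, hloc⟩ := hT
  haveI := hflat
  choose U hU r hr using hloc
  refine ⟨S', fun x => (U x : Scheme.{u}), fun x => (U x).ι ≫ f, fun x => inferInstance, fun x => ?_, fun x => ?_⟩
  · obtain ⟨y, rfl⟩ := f.surjective x
    exact ⟨y, ⟨y, hU y⟩, (Scheme.Hom.comp_apply _ _ _).trans rfl⟩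
  · obtain ⟨e⟩ := hr x
    let j : Red.bc ((U x).ι ≫ f) T ≅ Red.DS (U x : Scheme.{u}) (Fin (r x) → ℤ) := (Grp.forget _).mapIso e
    haveI : IsMonHom j.hom := e.hom.hom.isMonHom_hom
    exact ⟨r x, j.symm, inferInstanceAs (IsMonHom j.inv)⟩

/-- The piece of a point over a piece of a cover. -/
def pieceOver {P : Scheme.{u}} (p : P ⟶ S) (X : Over S) : Over P := Over.mk (pullback.snd X.hom p)

/-- Its map to the point. -/
def pieceMap {P : Scheme.{u}} (p : P ⟶ S) (X : Over S) : (Over.map p).obj (pieceOver p X) ⟶ X :=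
  Over.homMk (pullback.fst X.hom p) pullback.condition

theorem hom_ext_pieces {I : Type u} {P : I → Scheme.{u}} (p : ∀ i, P i ⟶ S) (hflat : ∀ i, Flat (p i))
    (hsurj : ∀ x : S, ∃ i, x ∈ Set.range (p i)) {X Z : Over S} {a b : X ⟶ Z}
    (h : ∀ i, pieceMap (p i) X ≫ a = pieceMap (p i) X ≫ b) : a = b := by
  refine MultSubLib.hom_ext_flat_cover (fun i => pieceMap (p i) X) (fun i => ?_) (fun y => ?_) h
  · haveI := hflat i
    exact inferInstanceAs (Flat (pullback.fst X.hom (p i)))
  · obtain ⟨i, x, hx⟩ := hsurj (X.hom y)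
    obtain ⟨w, hw, -⟩ := Scheme.Pullback.exists_preimage_pullback (f := X.hom) (g := p i) y x hx.symm
    exact ⟨i, w, hw⟩

/-- Tori are commutative. -/
theorem torus_comm {T : Over S} [GrpObj T] (hT : Red.IsTorus T) {X : Over S} (a b : X ⟶ T) : a * b = b * a := by
  obtain ⟨I, P, p, hflat, hsurj, hj⟩ := exists_split_cover hT
  refine hom_ext_pieces p hflat hsurj fun i => ?_
  obtain ⟨r, j, hj⟩ := hj i
  obtain ⟨a', ha⟩ := exists_tau (p i) j (pieceMap (p i) X ≫ a)
  obtain ⟨b', hb⟩ := exists_tau (p i) j (pieceMap (p i) X ≫ b)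
  rw [MonObj.comp_mul, MonObj.comp_mul, ← ha, ← hb, ← tau_mul, ← tau_mul]
  congr 1
  exact MultSubLib.chars_injective (by rw [MultSubLib.chars_mul, MultSubLib.chars_mul, mul_comm])

/-- Units lift, after a flat surjection, through a fibrewise non-trivial character of a torus. -/
theorem exists_lift {T : Over S} [GrpObj T] (hT : Red.IsTorus T) (α : T ⟶ Red.Gm S) [IsMonHom α]
    (hα : ∀ s : S, (Over.pullback (Red.geomPt s)).map α ≠ 1) {X : Over S} (z : (Γ(X.left, ⊤))ˣ) :
    ∃ (X' : Over S) (π : X' ⟶ X) (_ : Flat π.left) (_ : Surjective π.left) (t : X' ⟶ T),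
      Red.gmFn (t ≫ α) = π.left.appTop (z : Γ(X.left, ⊤)) := by
  obtain ⟨I, P, p, hflat, hsurj, hj⟩ := exists_split_cover hT
  choose r j hjm using hj
  haveI := hjm
  have hFG : ∀ i, AddGroup.FG (Fin (r i) → ℤ) := fun i => Module.Finite.iff_addGroup_fg.1 inferInstance
  haveI := hFG
  have hpiece := fun i (x : P i) => exists_piece (p i) (j i) α hα x
  choose V hxV φ hφ hV using hpiece
  have H : ∀ (k : Σ i, P i), ∃ (W : Over S) (π : W ⟶ X), Flat π.left ∧
      (∀ x : X.left, X.hom x ∈ p k.1 '' (V k.1 k.2 : Set (P k.1)) → x ∈ Set.range π.left) ∧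
      ∃ t : W ⟶ T, Red.gmFn (t ≫ α) = π.left.appTop (z : Γ(X.left, ⊤)) := by
    rintro ⟨i, v⟩
    haveI := hflat i
    let q : Scheme.Opens.toScheme (V i v) ⟶ S := (V i v).ι ≫ p i
    let Y : Over (P i) := Over.mk (pullback.snd X.hom q ≫ (V i v).ι)
    let π₁ : (Over.map (p i)).obj Y ⟶ X := Over.homMk (pullback.fst X.hom q) (by
      show pullback.fst X.hom q ≫ X.hom = (pullback.snd X.hom q ≫ (V i v).ι) ≫ p i
      rw [Category.assoc, pullback.condition])
    let w : Y ⟶ Red.Gm (P i) := GmPts.ptOfUnit (Units.map π₁.left.appTop.hom.toMonoidHom z)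
    obtain ⟨hfl, hsu⟩ := props_DSmap (P i) (φ i v) (hφ i v)
    haveI := hfl; haveI := hsu
    let g := Red.DSmap (P i) (φ i v)
    let Y' : Over (P i) := Over.mk (pullback.fst w.left g.left ≫ Y.hom)
    let π₂ : Y' ⟶ Y := Over.homMk (pullback.fst w.left g.left) rfl
    let a : Y' ⟶ Red.DS (P i) (Fin (r i) → ℤ) := Over.homMk (pullback.snd w.left g.left) (by
      show pullback.snd w.left g.left ≫ (Red.DS (P i) (Fin (r i) → ℤ)).hom = pullback.fst w.left g.left ≫ Y.hom
      rw [← Over.w g, ← pullback.condition_assoc, Over.w w])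
    have hag : a ≫ g = π₂ ≫ w := Over.OverMorphism.ext pullback.condition.symm
    refine ⟨(Over.map (p i)).obj Y', (Over.map (p i)).map π₂ ≫ π₁, ?_, ?_, tau (p i) (j i).hom a, ?_⟩
    · show Flat (pullback.fst w.left g.left ≫ pullback.fst X.hom q)
      haveI : Flat q := inferInstance
      infer_instance
    · rintro x ⟨v', hv', hx⟩
      obtain ⟨y, hy, -⟩ := Scheme.Pullback.exists_preimage_pullback (f := X.hom) (g := q) x ⟨v', hv'⟩
        (hx.symm.trans (Scheme.Hom.comp_apply (V i v).ι (p i) ⟨v', hv'⟩).symm)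
      obtain ⟨y', hy'⟩ := (inferInstance : Surjective (pullback.fst w.left g.left)).surj y
      refine ⟨y', ?_⟩
      show (pullback.fst w.left g.left ≫ pullback.fst X.hom q) y' = x
      rw [Scheme.Hom.comp_apply]
      exact (congrArg _ hy').trans hy
    · refine (hV i v Y' ?_ a).trans ?_
      · rintro _ ⟨y, rfl⟩
        show (pullback.fst w.left g.left ≫ pullback.snd X.hom q ≫ (V i v).ι) y ∈ (V i v : Set (P i))
        rw [Scheme.Hom.comp_apply, Scheme.Hom.comp_apply]
        exact ((pullback.snd X.hom q) ((pullback.fst w.left g.left) y)).2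
      · show Red.gmFn (a ≫ g) = _
        rw [hag, GmPts.gmFn_comp, GmPts.gmFn_ptOfUnit, Over.comp_left, Scheme.Hom.comp_appTop]
        rfl
  choose W π hflat' hrange t ht using H
  let π' : (∐ fun k => (W k).left) ⟶ X.left := Sigma.desc fun k => (π k).left
  let X' : Over S := Over.mk (π' ≫ X.hom)
  let pr : X' ⟶ X := Over.homMk π' rfl
  let inc : ∀ k, W k ⟶ X' := fun k => Over.homMk (Sigma.ι (fun k => (W k).left) k) (by
    show Sigma.ι (fun k => (W k).left) k ≫ π' ≫ X.hom = (W k).hom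
    rw [← Category.assoc, Sigma.ι_desc, Over.w])
  let tt : X' ⟶ T := Over.homMk (Sigma.desc fun k => (t k).left) (Sigma.hom_ext _ _ fun k => by
    show Sigma.ι (fun k => (W k).left) k ≫ (Sigma.desc fun k => (t k).left) ≫ T.hom = Sigma.ι (fun k => (W k).left) k ≫ π' ≫ X.hom
    rw [← Category.assoc, Sigma.ι_desc, ← Category.assoc, Sigma.ι_desc, Over.w, Over.w])
  have hinc : ∀ k, inc k ≫ tt = t k ∧ inc k ≫ pr = π k := fun k =>
    ⟨Over.OverMorphism.ext (Sigma.ι_desc _ _), Over.OverMorphism.ext (Sigma.ι_desc _ _)⟩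
  refine ⟨X', pr, (by haveI := hflat'; exact inferInstanceAs (Flat (Sigma.desc fun k => (π k).left))), ⟨fun x => ?_⟩, tt, ?_⟩
  · obtain ⟨i, v, hv⟩ := hsurj (X.hom x)
    obtain ⟨y, hy⟩ := hrange ⟨i, v⟩ x ⟨v, hxV i v, hv⟩
    refine ⟨(inc ⟨i, v⟩).left y, ?_⟩
    rw [← Scheme.Hom.comp_apply, ← Over.comp_left, (hinc _).2]
    exact hy
  · have he : tt ≫ α = pr ≫ GmPts.ptOfUnit z := by
      refine Over.OverMorphism.ext (Sigma.hom_ext _ _ fun k => ?_)
      refine congrArg CommaMorphism.left (?_ : inc k ≫ tt ≫ α = inc k ≫ pr ≫ GmPts.ptOfUnit z)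
      rw [← Category.assoc, (hinc k).1, ← Category.assoc, (hinc k).2]
      refine GmPts.gmFn_injective ?_
      show Red.gmFn _ = Red.gmFn _
      rw [ht k, GmPts.gmFn_comp, GmPts.gmFn_ptOfUnit]
    rw [he, GmPts.gmFn_comp, GmPts.gmFn_ptOfUnit]

/-- A function fixed by all values of a power of a non-trivial character vanishes. -/
theorem eq_zero_of_weight {T : Over S} [GrpObj T] (hT : Red.IsTorus T) (α : T ⟶ Red.Gm S) [IsMonHom α]
    (hα : ∀ s : S, (Over.pullback (Red.geomPt s)).map α ≠ 1) {X : Over S} (c : Γ(X.left, ⊤)) {k : ℕ} (hk : k ≠ 0)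
    (h : ∀ (X' : Over S) (π : X' ⟶ X) (t : X' ⟶ T), Red.gmFn (t ≫ α) ^ k * π.left.appTop c = π.left.appTop c) :
    c = 0 := by
  refine eq_zero_of_pow c hk fun X' π z => ?_
  obtain ⟨X'', π', _, _, t, ht⟩ := exists_lift hT α hα z
  haveI := epi_of_flat π'
  refine appTop_injective π' ?_
  rw [map_mul, map_pow, ← ht]
  have := h X'' (π' ≫ π) t
  rwa [Over.comp_left, Scheme.Hom.comp_appTop, ConcreteCategory.comp_apply] at this


/-- After extending a field point, a character takes a transcendental value. -/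
theorem exists_transcendental {T : Over S} [GrpObj T] (hT : Red.IsTorus T) (α : T ⟶ Red.Gm S) [IsMonHom α]
    (hα : ∀ s : S, (Over.pullback (Red.geomPt s)).map α ≠ 1) {K : Type u} [Field K] (a : Spec (CommRingCat.of K) ⟶ S) :
    ∃ (L : Type u) (_ : Field L) (_ : IsAlgClosed L) (b : Spec (CommRingCat.of L) ⟶ S)
      (π : fieldPt L b ⟶ fieldPt K a) (t : fieldPt L b ⟶ T),
      ∀ f : Polynomial Γ((fieldPt K a).left, ⊤), f ≠ 0 →
        (f.map π.left.appTop.hom).eval (Red.gmFn (t ≫ α)) ≠ 0 := by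
  let L₀ := AlgebraicClosure (FractionRing (Polynomial K))
  let σ : K →+* L₀ := (algebraMap (FractionRing (Polynomial K)) L₀).comp
    ((algebraMap (Polynomial K) (FractionRing (Polynomial K))).comp Polynomial.C)
  let ξ : Polynomial K →+* L₀ := (algebraMap (FractionRing (Polynomial K)) L₀).comp
    (algebraMap (Polynomial K) (FractionRing (Polynomial K)))
  have hξ : Function.Injective ξ :=
    (algebraMap (FractionRing (Polynomial K)) L₀).injective.comp (IsFractionRing.injective _ _)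
  let a₀ : Spec (CommRingCat.of L₀) ⟶ S := Spec.map (CommRingCat.ofHom σ) ≫ a
  let π₀ : fieldPt L₀ a₀ ⟶ fieldPt K a := Over.homMk (Spec.map (CommRingCat.ofHom σ)) rfl
  have hπ₀ : ∀ c, fieldFn L₀ a₀ (π₀.left.appTop c) = σ (fieldFn K a c) := fun c => by
    have h := congrArg (fun ψ => (ConcreteCategory.hom ψ) c)
      (Scheme.ΓSpecIso_naturality (CommRingCat.ofHom σ))
    exact h
  have hX : ξ Polynomial.X ≠ 0 := (map_ne_zero_iff _ hξ).2 Polynomial.X_ne_zero
  let z₀ : (Γ((fieldPt L₀ a₀).left, ⊤))ˣ := Units.map (fieldFn L₀ a₀).symm.toMonoidHom (Units.mk0 _ hX)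
  obtain ⟨X'', π', _, hsu, t, ht⟩ := exists_lift hT α hα z₀
  obtain ⟨y, -⟩ := hsu.surj (IsLocalRing.closedPoint L₀ : PrimeSpectrum L₀)
  obtain ⟨L, hL, hLa, b, q, -⟩ := exists_geomPt X'' y
  refine ⟨L, hL, hLa, b, q ≫ π' ≫ π₀, q ≫ t, fun f hf => ?_⟩
  let ρ : Γ((fieldPt L₀ a₀).left, ⊤) →+* Γ((fieldPt L b).left, ⊤) := (q ≫ π').left.appTop.hom
  have h1 : Red.gmFn ((q ≫ t) ≫ α) = ρ z₀ := by
    rw [Category.assoc, GmPts.gmFn_comp, ht]
    simp only [ρ, Over.comp_left, Scheme.Hom.comp_appTop]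
    rfl
  have h2 : (q ≫ π' ≫ π₀).left.appTop.hom = ρ.comp π₀.left.appTop.hom := by
    rw [← Category.assoc, Over.comp_left, Scheme.Hom.comp_appTop]
    rfl
  rw [h1, h2, ← Polynomial.map_map, Polynomial.eval_map, Polynomial.eval₂_at_apply]
  let e := fieldFn L₀ a₀
  haveI : Nontrivial Γ((fieldPt L b).left, ⊤) := (fieldFn L b).toEquiv.nontrivial
  have hinj : Function.Injective ρ := by
    have := ((ρ.comp e.symm.toRingHom).injective)
    exact fun x y h => e.injective (this (by simpa using h))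
  refine (map_ne_zero_iff _ hinj).2 fun h0 => hf ?_
  have h3 : e (Polynomial.eval (z₀ : Γ((fieldPt L₀ a₀).left, ⊤)) (f.map π₀.left.appTop.hom)) =
      ξ (f.map (fieldFn K a).toRingHom) := by
    rw [Polynomial.eval_map]
    change e.toRingHom (Polynomial.eval₂ _ _ _) = _
    rw [Polynomial.hom_eval₂]
    have hz : e (z₀ : Γ((fieldPt L₀ a₀).left, ⊤)) = ξ Polynomial.X := e.apply_symm_apply _
    have hhom : (Polynomial.eval₂RingHom (e.toRingHom.comp π₀.left.appTop.hom) (ξ Polynomial.X)) =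
        ξ.comp (Polynomial.mapRingHom (fieldFn K a).toRingHom) := by
      refine Polynomial.ringHom_ext (fun c => ?_) ?_
      · rw [Polynomial.coe_eval₂RingHom, Polynomial.eval₂_C, RingHom.comp_apply, RingHom.comp_apply,
          Polynomial.coe_mapRingHom, Polynomial.map_C]
        exact hπ₀ c
      · rw [Polynomial.coe_eval₂RingHom, Polynomial.eval₂_X]
        exact (congrArg ξ (Polynomial.map_X _)).symm
    have := RingHom.congr_fun hhom f
    rw [show e.toRingHom (z₀ : Γ((fieldPt L₀ a₀).left, ⊤)) = ξ Polynomial.X from hz]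
    exact this
  rw [h0, map_zero] at h3
  exact Polynomial.map_injective _ (fieldFn K a).injective
    ((hξ (h3.symm.trans (map_zero ξ).symm)).trans (Polynomial.map_zero _).symm)

end Groth.Agent.BigCell
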